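import Cfsg.Agent.H992.E8X.Tab
import Cfsg.Agent.H378.TorFin
import Cfsg.Agent.H129.TorusChar

/-!
# The endomorphism `σ = n ∘ Φ` of `E₈(k)` (helper992)
-/

set_option autoImplicit false

namespace Cfsg.Agent.H992.E8X

open Cfsg Cfsg.Lie Cfsg.Agent.ChevalleyStructure Cfsg.Agent.ChevalleyStructure.Elts
open Cfsg.Agent.BpExc.FamUntw (phi)
open scoped commutatorElement

universe u

section
variable {k : Type u} [Field k] {p : ℕ} [Fact p.Prime] [CharP k p] [PerfectRing k p] {n : ℕ}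

variable (k p n) in
/-- the endomorphism `σ` -/
noncomputable def sig : MulAut ↥(chevE8.group k) := MulAut.conj (nW k wl) * phi chevE8 k p n

theorem phi_X (r : ℕ) (t : k) : phi chevE8 k p n (X r t) = X r (t ^ p ^ n) := by
  apply Subtype.ext
  rw [Cfsg.Agent.H378.TorFin.phi_glMap]
  show Cfsg.Agent.GpExc.Field.glMap chevE8 (Cfsg.Agent.H378.TorFin.frobHom k p n) (xG hE8 r t) = xG hE8 r (t ^ p ^ n)
  rw [Cfsg.Agent.GpExc.Field.glMap_xG hE8, Cfsg.Agent.H378.TorFin.frobHom_apply]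

theorem sig_X {r : ℕ} (hr : r < 240) (t : k) :
    sig k p n (X r t) = X (act wl r).1 (((act wl r).2 : k) * t ^ p ^ n) := by
  show nW k wl * phi chevE8 k p n (X r t) * (nW k wl)⁻¹ = _
  rw [phi_X, (nW_X wl wl_lt hr _).2]

omit [PerfectRing k p] in
theorem intCast_pow (z : ℤ) (m : ℕ) : (z : k) ^ p ^ m = z := by
  have h1 : iterateFrobenius k p m (z : k) = z := map_intCast _ z
  rwa [iterateFrobenius_def] at h1

theorem sig_it {r : ℕ} (hr : r < 240) (i : ℕ) (t : k) :
    (it r i).1 < 240 ∧ (sig k p n ^ i) (X r t) = X (it r i).1 (((it r i).2 : k) * t ^ (p ^ n) ^ i) := by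
  induction i with
  | zero =>
    refine ⟨hr, ?_⟩
    rw [pow_zero, MulAut.one_apply]
    show X r t = X r (((1 : ℤ) : k) * t ^ (p ^ n) ^ 0)
    rw [Int.cast_one, one_mul, pow_zero, pow_one]
  | succ i ih =>
    obtain ⟨h1, h2⟩ := ih
    refine ⟨(nW_X (k := k) wl wl_lt h1 0).1, ?_⟩
    rw [pow_succ', MulAut.mul_apply, h2, sig_X h1]
    show X _ _ = X (act wl (it r i).1).1 (((((act wl (it r i).1).2 * (it r i).2 : ℤ)) : k) * t ^ (p ^ n) ^ (i + 1))
    congr 1
    rw [mul_pow, intCast_pow, Int.cast_mul, mul_assoc, ← pow_mul, ← pow_succ]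

theorem sig_commute {r s : ℕ} (hr : r < 240) (hs : s < 240) {i j : ℕ}
    (h : Cm (it r i).1 (it s j).1 = true) (t u : k) :
    Commute ((sig k p n ^ j) (X s u)) ((sig k p n ^ i) (X r t)) := by
  obtain ⟨h1, h2⟩ := sig_it (k := k) (p := p) (n := n) hr i t
  obtain ⟨h3, h4⟩ := sig_it (k := k) (p := p) (n := n) hs j u
  rw [h2, h4]
  exact X_commute h1 h3 h _ _

/-- `σ⁸` on the base roots -/
theorem sig_eight {r : ℕ} (hr : r < 240) (h8 : it r 8 = (r, 1)) {t : k} (ht : t ^ (p ^ n) ^ 8 = t) :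
    (sig k p n ^ 8) (X r t) = X r t := by
  rw [(sig_it hr 8 t).2, h8, ht, Int.cast_one, one_mul]

/-- the fixed points of `σ` -/
noncomputable def fixG (k : Type u) [Field k] (p : ℕ) [Fact p.Prime] [CharP k p] [PerfectRing k p] (n : ℕ) :
    Subgroup ↥(chevE8.group k) where
  carrier := {g | sig k p n g = g}
  mul_mem' {a b} ha hb := by
    show sig k p n (a * b) = a * b
    rw [map_mul, show sig k p n a = a from ha, show sig k p n b = b from hb]
  one_mem' := map_one _
  inv_mem' {a} ha := by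
    show sig k p n a⁻¹ = a⁻¹
    rw [map_inv, show sig k p n a = a from ha]

theorem mem_fixG {g : ↥(chevE8.group k)} : g ∈ fixG k p n ↔ sig k p n g = g := Iff.rfl

theorem pow_sig_fix {g : ↥(chevE8.group k)} (h : sig k p n g = g) (i : ℕ) : (sig k p n ^ i) g = g := by
  induction i with
  | zero => rw [pow_zero]; rfl
  | succ i ih => rw [pow_succ', MulAut.mul_apply, ih, h]

/-- the product over an orbit -/
noncomputable def P8 (k : Type u) [Field k] (p : ℕ) [Fact p.Prime] [CharP k p] [PerfectRing k p] (n : ℕ)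
    (g : ↥(chevE8.group k)) : ↥(chevE8.group k) :=
  g * (sig k p n ^ 1) g * (sig k p n ^ 2) g * (sig k p n ^ 3) g * (sig k p n ^ 4) g * (sig k p n ^ 5) g *
    (sig k p n ^ 6) g * (sig k p n ^ 7) g

theorem sig_pow_succ (i : ℕ) (g : ↥(chevE8.group k)) : sig k p n ((sig k p n ^ i) g) = (sig k p n ^ (i + 1)) g := by
  rw [pow_succ', MulAut.mul_apply]

end

section Gen
variable {G : Type*} [Group G]

/-- moving the first factor to the end -/
theorem rot8 {x0 x1 x2 x3 x4 x5 x6 x7 : G} (h1 : Commute x0 x1) (h2 : Commute x0 x2) (h3 : Commute x0 x3)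
    (h4 : Commute x0 x4) (h5 : Commute x0 x5) (h6 : Commute x0 x6) (h7 : Commute x0 x7) :
    x1 * x2 * x3 * x4 * x5 * x6 * x7 * x0 = x0 * x1 * x2 * x3 * x4 * x5 * x6 * x7 := by
  have h : Commute x0 (x1 * x2 * x3 * x4 * x5 * x6 * x7) :=
    ((((((h1.mul_right h2).mul_right h3).mul_right h4).mul_right h5).mul_right h6).mul_right h7)
  rw [← h.eq]
  group

end Gen

section
variable {k : Type u} [Field k] {p : ℕ} [Fact p.Prime] [CharP k p] [PerfectRing k p] {n : ℕ}

theorem sig_P8 {g : ↥(chevE8.group k)} (h8 : (sig k p n ^ 8) g = g)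
    (hc : ∀ i ∈ [1, 2, 3, 4, 5, 6, 7], Commute g ((sig k p n ^ i) g)) : sig k p n (P8 k p n g) = P8 k p n g := by
  unfold P8
  simp only [map_mul, sig_pow_succ]
  rw [h8]
  have h0 : sig k p n g = (sig k p n ^ 1) g := by rw [pow_one]
  rw [h0]
  exact rot8 (hc 1 (by decide)) (hc 2 (by decide)) (hc 3 (by decide)) (hc 4 (by decide)) (hc 5 (by decide))
    (hc 6 (by decide)) (hc 7 (by decide))

end

/-! ### The fixed points of `σ` embed into `E₈(F)` -/

section
open Cfsg.Agent.GpExc.Field (emb emb_injective)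
open Cfsg.Agent.Nodes.RGDChev (IsType)

variable {k : Type u} [Field k] [IsAlgClosed k] {p : ℕ} [Fact p.Prime] [CharP k p]
  {F : Type u} [Field F] [Finite F] (f : F →+* k) {n : ℕ}

theorem e8T : IsType chevE8 8 CoxeterMatrix.E₈ := by simp [IsType, Cfsg.Agent.Nodes.RGDChev.typeList]

include f in
/-- Lang's theorem: `σ` and the Frobenius map have conjugate groups of fixed points. -/
theorem exists_fix_hom (hn0 : 0 < n) (hn : Nat.card F = p ^ n) :
    ∃ θ : ↥(fixG k p n) →* ↥(chevE8.group F), Function.Injective θ := by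
  obtain ⟨z, hz⟩ := Cfsg.Agent.H378.TorFin.lang' (k := k) e8T p hn0 (nW k wl)
  have hfix : ∀ g : ↥(fixG k p n), z * g.1 * z⁻¹ ∈ (emb hE8 f).range := by
    intro g
    apply Cfsg.Agent.H378.TorFin.fix_mem e8T f p hn Cfsg.Agent.H129.TorusChar.invC_E8
    have h1 : phi chevE8 k p n z = z * nW k wl := by rw [← hz]; group
    have h2 : nW k wl * phi chevE8 k p n g.1 * (nW k wl)⁻¹ = g.1 := g.2
    rw [map_mul, map_mul, map_inv, h1]
    calc z * nW k wl * phi chevE8 k p n g.1 * (z * nW k wl)⁻¹ =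
        z * (nW k wl * phi chevE8 k p n g.1 * (nW k wl)⁻¹) * z⁻¹ := by group
      _ = _ := by rw [h2]
  let ψ : ↥(fixG k p n) →* ↥(emb hE8 f).range :=
    ((MulAut.conj z).toMonoidHom.comp (fixG k p n).subtype).codRestrict _ hfix
  have hψ : Function.Injective ψ := by
    intro a b hab
    have h1 : z * a.1 * z⁻¹ = z * b.1 * z⁻¹ := congrArg Subtype.val hab
    exact Subtype.ext (by simpa using h1)
  refine ⟨(MonoidHom.ofInjective (emb_injective hE8 f)).symm.toMonoidHom.comp ψ, ?_⟩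
  exact (MonoidHom.ofInjective (emb_injective hE8 f)).symm.injective.comp hψ

end

end Cfsg.Agent.H992.E8X
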