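import Cfsg.Agent.H992.E8X.Main

/-!
# Cross characteristic modules for `E₈(u)`: the theorem (helper992)
-/

set_option autoImplicit false

namespace Cfsg.Agent.H992.E8X

open Cfsg Cfsg.Lie Cfsg.Agent.ChevalleyStructure Cfsg.Agent.ChevalleyStructure.Elts
open Cfsg.Agent.AGraded
open Matrix Matrix.SpecialLinearGroup
open Cfsg.Agent.H992.E8X.Su3
open Cfsg.Agent.H992.RkOne
open Cfsg.Agent.BpExc.TowChev
open scoped commutatorElement

universe u v w

/-! ### Arithmetic -/

section Arith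

theorem arith {q s : ℕ} (hq : 2 ≤ q) (hs : s.Prime) (hd : s ∣ q ^ 8 - q ^ 4 + 1) :
    s ∣ (q ^ 4) ^ 3 + 1 ∧ s ≠ 3 ∧ ¬ s ∣ q ∧ Nat.Coprime s ((q ^ 4) ^ 2 - 1) := by
  set Q := q ^ 4 with hQ
  have hQ2 : 16 ≤ Q := by
    have : 2 ^ 4 ≤ q ^ 4 := Nat.pow_le_pow_left hq 4
    omega
  have h8 : q ^ 8 = Q ^ 2 := by rw [hQ, ← pow_mul]
  have hQQ : Q ≤ Q ^ 2 := by nlinarith
  rw [h8] at hd
  have hd' : (s : ℤ) ∣ (Q : ℤ) ^ 2 - Q + 1 := by
    have : ((Q ^ 2 - Q + 1 : ℕ) : ℤ) = (Q : ℤ) ^ 2 - Q + 1 := by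
      rw [Nat.cast_add, Nat.cast_sub hQQ]
      push_cast
      ring
    rw [← this]
    exact_mod_cast hd
  have hsp : Prime (s : ℤ) := Nat.prime_iff_prime_int.1 hs
  have h3 : s ≠ 3 := by
    rintro rfl
    have hm : Q % 3 = 0 ∨ Q % 3 = 1 := by
      rw [hQ, Nat.pow_mod]
      have : q % 3 < 3 := Nat.mod_lt _ (by decide)
      generalize q % 3 = a at this ⊢
      interval_cases a <;> simp
    obtain ⟨c, hc⟩ := hd'
    rcases hm with h | h
    · obtain ⟨d, hd⟩ : ∃ d, Q = 3 * d := ⟨Q / 3, by omega⟩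
      rw [hd] at hc
      push_cast at hc
      have : (3 : ℤ) ∣ 1 := ⟨c - 3 * d ^ 2 + d, by linarith⟩
      norm_num at this
    · obtain ⟨d, hd⟩ : ∃ d, Q = 3 * d + 1 := ⟨Q / 3, by omega⟩
      rw [hd] at hc
      push_cast at hc
      have : (3 : ℤ) ∣ 1 := ⟨c - 3 * d ^ 2 - d, by linarith⟩
      norm_num at this
  have hq' : ¬ s ∣ q := by
    intro h
    have h1 : (s : ℤ) ∣ Q := by
      rw [hQ]
      push_cast
      exact Dvd.dvd.pow (by exact_mod_cast h) (by decide)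
    have h2 : (s : ℤ) ∣ 1 := by
      have e : (1 : ℤ) = ((Q : ℤ) ^ 2 - Q + 1) - Q * (Q - 1) := by ring
      rw [e]
      exact dvd_sub hd' (Dvd.dvd.mul_right h1 _)
    exact hsp.not_unit (isUnit_of_dvd_one h2)
  refine ⟨?_, h3, hq', ?_⟩
  · have h1 : (s : ℤ) ∣ (Q : ℤ) ^ 3 + 1 := by
      have e : (Q : ℤ) ^ 3 + 1 = ((Q : ℤ) ^ 2 - Q + 1) * (Q + 1) := by ring
      rw [e]
      exact Dvd.dvd.mul_right hd' _
    exact_mod_cast h1
  · rw [Nat.Prime.coprime_iff_not_dvd hs]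
    intro h
    have h1 : (s : ℤ) ∣ (Q : ℤ) ^ 2 - 1 := by
      have : ((Q ^ 2 - 1 : ℕ) : ℤ) = (Q : ℤ) ^ 2 - 1 := by
        rw [Nat.cast_sub (by nlinarith)]
        push_cast
        ring
      rw [← this]
      exact_mod_cast h
    have e : (Q : ℤ) ^ 2 - 1 = (Q - 1) * (Q + 1) := by ring
    rw [e] at h1
    rcases hsp.dvd_or_dvd h1 with h2 | h2
    · have h4 : (s : ℤ) ∣ 1 := by
        have e : (1 : ℤ) = ((Q : ℤ) ^ 2 - Q + 1) - (Q - 1) * Q := by ring
        rw [e]
        exact dvd_sub hd' (Dvd.dvd.mul_right h2 _)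
      exact hsp.not_unit (isUnit_of_dvd_one h4)
    · have h4 : (s : ℤ) ∣ 3 := by
        have e : (3 : ℤ) = ((Q : ℤ) ^ 2 - Q + 1) - (Q + 1) * (Q - 2) := by ring
        rw [e]
        exact dvd_sub hd' (Dvd.dvd.mul_right h2 _)
      have h5 : s ∣ 3 := by exact_mod_cast h4
      exact h3 ((Nat.prime_dvd_prime_iff_eq hs Nat.prime_three).1 h5)

theorem arith2 {q : ℕ} (hq : 2 ≤ q) : 1 + q ^ 2 + q ^ 3 < q ^ 4 - 1 := by
  obtain ⟨m, rfl⟩ : ∃ m, q = m + 2 := ⟨q - 2, by omega⟩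
  have h : 1 + (m + 2) ^ 2 + (m + 2) ^ 3 + 2 ≤ (m + 2) ^ 4 := by ring_nf; nlinarith [Nat.zero_le m]
  omega

end Arith

/-! ### The image of an element of order `s` -/

section
variable {k : Type u} [Field k] {p : ℕ} [Fact p.Prime] [CharP k p] [PerfectRing k p] {n : ℕ}
variable {E : Type v} [Field E] {π : SpecialLinearGroup (Fin 3) E →* ↥(chevE8.group k)}

theorem center_pow {z : SpecialLinearGroup (Fin 3) E} (hz : z ∈ Subgroup.center (SpecialLinearGroup (Fin 3) E)) :
    z ^ 3 = 1 := by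
  rw [Matrix.SpecialLinearGroup.mem_center_iff] at hz
  obtain ⟨r, hr, hr'⟩ := hz
  rw [Fintype.card_fin] at hr
  apply Subtype.ext
  rw [coe_pow, ← hr', ← map_pow, hr, map_one]
  rfl

theorem io_ne (hπ : ∀ A, π A ∈ L k) (hker : π.ker ≤ Subgroup.center (SpecialLinearGroup (Fin 3) E)) {s : ℕ}
    (hs : s.Prime) (h3 : s ≠ 3) {t : SpecialLinearGroup (Fin 3) E} (ht : t ^ s = 1) (h : P4 k p n (π t) = 1) :
    t = 1 := by
  have hcop : Nat.Coprime s 3 := (Nat.coprime_primes hs Nat.prime_three).2 h3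
  have hcomm : ∀ B, Commute (π t) (π B) := by
    intro B
    unfold P4 at h
    have e0 : ∀ z : ↥(chevE8.group k), z = (sig k p n ^ 0) z := fun z => by rw [pow_zero]; rfl
    have c : ∀ j < 4, 0 < j → Commute (π B) ((sig k p n ^ j) (π t)) := fun j hj h0 => by
      have := L_comm' (p := p) (n := n) h0 hj (hπ B) (hπ t)
      rwa [← e0] at this
    have h1 : π t = ((sig k p n ^ 1) (π t) * (sig k p n ^ 2) (π t) * (sig k p n ^ 3) (π t))⁻¹ :=
      eq_inv_of_mul_eq_one_left (by rw [← h]; group)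
    rw [h1]
    exact (((c 1 (by decide) (by decide)).mul_right (c 2 (by decide) (by decide))).mul_right
      (c 3 (by decide) (by decide))).symm.inv_left
  have hcen : ∀ B, ⁅t, B⁆ ∈ Subgroup.center (SpecialLinearGroup (Fin 3) E) := by
    intro B
    apply hker
    rw [MonoidHom.mem_ker, map_commutatorElement]
    exact commutatorElement_eq_one_iff_commute.2 (hcomm B)
  have hpow : ∀ B, ∀ m : ℕ, t ^ m * B = ⁅t, B⁆ ^ m * (B * t ^ m) := by
    intro B m
    induction m with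
    | zero => simp
    | succ m ih =>
      have hz := Subgroup.mem_center_iff.1 (hcen B)
      have e1 : t * B = ⁅t, B⁆ * (B * t) := by rw [commutatorElement_def]; group
      have e2 : ⁅t, B⁆ ^ m ∈ Subgroup.center (SpecialLinearGroup (Fin 3) E) := Subgroup.pow_mem _ (hcen B) m
      calc t ^ (m + 1) * B = t * (t ^ m * B) := by rw [pow_succ']; group
        _ = (t * ⁅t, B⁆ ^ m) * (B * t ^ m) := by rw [ih]; group
        _ = ⁅t, B⁆ ^ m * (t * B) * t ^ m := by rw [Subgroup.mem_center_iff.1 e2 t]; group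
        _ = ⁅t, B⁆ ^ m * (⁅t, B⁆ * (B * t)) * t ^ m := by rw [← e1]
        _ = _ := by rw [pow_succ, pow_succ']; group
  have hone : ∀ B, Commute t B := by
    intro B
    have h1 := hpow B s
    rw [ht, one_mul, mul_one] at h1
    have h2 : ⁅t, B⁆ ^ s = 1 := (mul_eq_right.1 h1.symm)
    have h4 := center_pow (hcen B)
    have h5 : orderOf ⁅t, B⁆ ∣ 1 := by
      rw [← hcop]
      exact Nat.dvd_gcd (orderOf_dvd_of_pow_eq_one h2) (orderOf_dvd_of_pow_eq_one h4)
    exact commutatorElement_eq_one_iff_commute.1 (orderOf_eq_one_iff.1 (Nat.dvd_one.1 h5))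
  have hct : t ∈ Subgroup.center (SpecialLinearGroup (Fin 3) E) :=
    Subgroup.mem_center_iff.2 fun B => (hone B).eq.symm
  have h5 : orderOf t ∣ 1 := by
    rw [← hcop]
    exact Nat.dvd_gcd (orderOf_dvd_of_pow_eq_one ht) (orderOf_dvd_of_pow_eq_one (center_pow hct))
  exact orderOf_eq_one_iff.1 (Nat.dvd_one.1 h5)

end

/-! ### The theorem -/

section
variable {F : Type u} [Field F] [Finite F] {K : Type v} [Field K] {V : Type w} [AddCommGroup V] [Module K V]

/-- **Theorem.** A faithful module of `E₈(u)` in characteristic prime to `u`: an element of prime order `s`,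
`s ∣ u⁸ - u⁴ + 1`, fixes a nonzero vector. -/
theorem exists_fix (ρ : ↥(chevE8.group F) →* Module.End K V) (hρ : Function.Injective ρ)
    (hK : (Nat.card F : K) ≠ 0) {s : ℕ} (hs : s.Prime) (hd : s ∣ Nat.card F ^ 8 - Nat.card F ^ 4 + 1) :
    ∃ x : ↥(chevE8.group F), orderOf x = s ∧ ∃ v : V, v ≠ 0 ∧ ρ x v = v := by
  classical
  obtain ⟨k, _, _, fF, p, hp, _, n, -, -, hn0, hn⟩ := Cfsg.Agent.H378.TorFin.exists_closure F
  have : Fact p.Prime := hp
  set q := p ^ n with hq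
  have hq2 : 2 ≤ q := (hp.out.two_le).trans (Nat.le_self_pow hn0.ne' p)
  rw [hn] at hK hd
  obtain ⟨hd3, hs3, hsq, hcop⟩ := arith hq2 hs hd
  have hpK : (p : K) ≠ 0 := by
    intro h0
    apply hK
    rw [hq, Nat.cast_pow, h0, zero_pow hn0.ne']
  have hsp : s ≠ p := fun h => hsq (h ▸ dvd_pow_self p hn0.ne')
  -- the field with `q ^ 8` elements
  let E := GaloisField p (8 * n)
  let _ : Fintype E := Fintype.ofFinite E
  have h8n : 8 * n ≠ 0 := by omega
  have hEc : Fintype.card E = (q ^ 4) ^ 2 := by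
    rw [← Nat.card_eq_fintype_card, GaloisField.card p (8 * n) h8n, hq, ← pow_mul, ← pow_mul]
    congr 1
    ring
  let _ : Algebra (ZMod p) k := ZMod.algebra k p
  let f : E →+* k := ((IsAlgClosed.lift : E →ₐ[ZMod p] k) : E →+* k)
  let σ : E →+* E := iterateFrobenius E p (4 * n)
  have hσ : ∀ x : E, σ x = x ^ (p ^ n) ^ 4 := fun x => by
    show iterateFrobenius E p (4 * n) x = _
    rw [iterateFrobenius_def, ← pow_mul, mul_comm n 4]
  have hE8 : ∀ a : E, a ^ (p ^ n) ^ 8 = a := by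
    intro a
    have h1 : (p ^ n) ^ 8 = Fintype.card E := by rw [hEc, hq, ← pow_mul, ← pow_mul, ← pow_mul]
    rw [h1, FiniteField.pow_card]
  have hσσ : ∀ x : E, σ (σ x) = x := fun x => by
    rw [hσ, hσ, ← pow_mul, ← pow_add]
    exact hE8 x
  obtain ⟨π, h1, h2, hker⟩ := exists_pi (k := k) f
  have hπ : ∀ A, π A ∈ L k := pi_mem_L f h2
  have h4 := fun x : SUJ σ => sig_four_pi (k := k) (p := p) (n := n) f h1 hσ x
  obtain ⟨θ, hθ⟩ := exists_fix_hom (k := k) fF hn0 hn
  let J : ↥(SUJ σ) →* ↥(fixG k p n) := jj p n hπ h4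
  have hJ : ∀ x : SUJ σ, (J x : ↥(chevE8.group k)) = P4 k p n (π x.1) := fun x => rfl
  -- the element of order `s`
  obtain ⟨t, hts, ht1⟩ := exists_order (E := E) hEc hσ hs hd3
  have hJt : J t ≠ 1 := by
    intro h
    apply ht1
    have h5 : P4 k p n (π t.1) = 1 := by rw [← hJ, h]; rfl
    exact Subtype.ext (io_ne hπ hker hs hs3 (congrArg Subtype.val hts) h5)
  have hx : orderOf (θ (J t)) = s := by
    have : Fact s.Prime := ⟨hs⟩
    apply orderOf_eq_prime
    · rw [← map_pow, ← map_pow, hts, map_one, map_one]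
    · intro h
      exact hJt (hθ (by rw [h, map_one]))
  refine ⟨θ (J t), hx, ?_⟩
  by_contra hcon
  push Not at hcon
  -- the sum over `T` vanishes
  have hsum : ∀ v : V, ∑ i ∈ Finset.range s, ρ ((θ.comp J) (t ^ i)) v = 0 := by
    intro v
    by_contra h0
    refine hcon _ h0 ?_
    have e : ∀ i, ρ (θ (J t)) (ρ ((θ.comp J) (t ^ i)) v) = ρ ((θ.comp J) (t ^ (i + 1))) v := by
      intro i
      rw [← Module.End.mul_apply, ← map_mul]
      show ρ ((θ.comp J) t * (θ.comp J) (t ^ i)) v = _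
      rw [← map_mul, ← pow_succ']
    rw [map_sum, Finset.sum_congr rfl fun i _ => e i]
    have h5 := Finset.sum_range_succ (fun i => ρ ((θ.comp J) (t ^ i)) v) s
    have h6 := Finset.sum_range_succ' (fun i => ρ ((θ.comp J) (t ^ i)) v) s
    rw [h5] at h6
    simp only [hts, pow_zero] at h6
    exact (add_right_cancel h6).symm
  -- elements of order `s` are not in the Borel subgroup
  have hEs : ∀ x : E, x ^ s = 1 → x = 1 := by
    intro x hx
    have hx0 : x ≠ 0 := by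
      rintro rfl
      rw [zero_pow hs.ne_zero] at hx
      exact zero_ne_one hx
    have h5 : x ^ ((q ^ 4) ^ 2 - 1) = 1 := by rw [← hEc]; exact FiniteField.pow_card_sub_one_eq_one x hx0
    have h6 : orderOf x ∣ 1 := by
      rw [← hcop]
      exact Nat.dvd_gcd (orderOf_dvd_of_pow_eq_one hx) (orderOf_dvd_of_pow_eq_one h5)
    exact orderOf_eq_one_iff.1 (Nat.dvd_one.1 h6)
  have hT : ∀ i ∈ Finset.range s, i ≠ 0 → ∃ v ∈ U σ, ∃ c ∈ C σ, ∃ u ∈ U σ, t ^ i = v * c * nn σ * u := by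
    intro i hi hi0
    have hti : t ^ i ≠ 1 := by
      intro h5
      have h6 : orderOf t = s := by
        have : Fact s.Prime := ⟨hs⟩
        exact orderOf_eq_prime hts ht1
      have h7 := orderOf_dvd_of_pow_eq_one h5
      rw [h6] at h7
      exact absurd (Nat.le_of_dvd (Nat.pos_of_ne_zero hi0) h7) (not_le.2 (Finset.mem_range.1 hi))
    have htis : (t ^ i) ^ s = 1 := by rw [← pow_mul, mul_comm i s, pow_mul, hts, one_pow]
    exact (bruhat hσσ (t ^ i)).resolve_left (not_borel (p := p) hs hsp htis hti hEs)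
  -- a generator of the torus
  obtain ⟨b, hb⟩ := IsCyclic.exists_generator (α := Eˣ)
  obtain ⟨c, hc, hcc⟩ := exists_cc (σ := σ) hσσ b.ne_zero
  set β : E := ((b : E) * σ b)⁻¹ with hβ
  have hβ0 : β ≠ 0 := inv_ne_zero (mul_ne_zero b.ne_zero (by simp))
  set l : E := β ^ (1 + (p ^ n) ^ 2 + (p ^ n) ^ 3) with hl
  have hl1 : l ≠ 1 := by
    intro h5
    have h6 : b ^ ((q ^ 4 + 1) * (1 + q ^ 2 + q ^ 3)) = 1 := by
      apply Units.ext
      rw [Units.val_pow_eq_pow_val, Units.val_one]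
      have h7 : β⁻¹ ^ (1 + q ^ 2 + q ^ 3) = 1 := by rw [inv_pow, ← hl, h5, inv_one]
      rw [hβ, inv_inv, hσ, ← hq] at h7
      rw [pow_mul, ← h7]
      congr 1
      rw [pow_succ, mul_comm]
    have h8 := orderOf_dvd_of_pow_eq_one h6
    rw [orderOf_eq_card_of_forall_mem_zpowers hb, Nat.card_units, Nat.card_eq_fintype_card, hEc] at h8
    have e : (q ^ 4) ^ 2 - 1 = (q ^ 4 + 1) * (q ^ 4 - 1) := by
      rw [← Nat.sq_sub_sq (q ^ 4) 1, one_pow]
    rw [e] at h8
    have h9 := Nat.dvd_of_mul_dvd_mul_left (by positivity) h8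
    have h10 := Nat.le_of_dvd (by positivity) h9
    have h11 := arith2 hq2
    omega
  -- the elements `r`, `y₁`, `y₂`
  let r : E → ↥(chevE8.group F) := fun d => θ ⟨rr p n f d, rr_fix f hE8 d⟩
  let z1 : E → ↥(chevE8.group F) := fun d => θ ⟨y1 p n f d, y1_fix f hE8 d⟩
  let z2 : E → ↥(chevE8.group F) := fun d => θ ⟨y2 p n f d, y2_fix f hE8 d⟩
  have hι : (Fintype.card E : K) ≠ 0 := by
    rw [hEc, hq]
    push_cast
    exact pow_ne_zero _ (pow_ne_zero _ (pow_ne_zero _ hpK))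
  have hUf : Finite (U σ) := inferInstance
  have hU : (Nat.card (U σ) : K) ≠ 0 := by
    obtain ⟨m, hm⟩ := (isPGroup_U (σ := σ) (p := p)).exists_card_eq
    rw [hm]
    push_cast
    exact pow_ne_zero _ hpK
  have hres := cross' ρ (θ.comp J) hι r z1 z2 (U σ) (Z σ) (C σ) Z_le_U hU
    (h21 := by
      intro x hxU hxZ
      obtain ⟨t', ht'⟩ := pi_U (k := k) (p := p) (n := n) f h1 hσ hxU
      have ha : x.1.1 0 1 ≠ 0 := by
        intro h0
        apply hxZ
        refine ⟨hxU, h0, ?_⟩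
        rw [(U_entries hxU).1, h0, map_zero, neg_zero]
      refine ⟨fun d => x.1.1 0 1 * d, (Equiv.mulLeft₀ _ ha).bijective, fun d => ?_⟩
      have h5 := y2_shift (k := k) (p := p) (n := n) f hE8 (x.1.1 0 1) d t'
      rw [← ht'] at h5
      show (θ _)⁻¹ * θ (J x) * θ _ = θ (J x) * θ _
      rw [← map_inv, ← map_mul, ← map_mul, ← map_mul]
      exact congrArg θ (Subtype.ext h5))
    (h22 := by
      intro x hx d
      have h5 := y2_shift_z (k := k) (p := p) (n := n) f hE8 d (f (-x.1.1 0 2))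
      rw [← pi_Z f h1 hx] at h5
      show (θ _)⁻¹ * θ (J x) * θ _ = θ (J x)
      rw [← map_inv, ← map_mul, ← map_mul]
      exact congrArg θ (Subtype.ext h5))
    (h11 := by
      intro x hx hx1
      have hb0 : -x.1.1 0 2 ≠ 0 := by
        intro h0
        apply hx1
        have h5 := Z_param hx
        rw [neg_eq_zero.1 h0] at h5
        apply Subtype.ext
        rw [h5]
        apply Subtype.ext
        show 1 + single 0 2 (0 : E) = 1
        simp
      refine ⟨fun d => -x.1.1 0 2 * d, (Equiv.mulLeft₀ _ hb0).bijective, fun d => ?_⟩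
      have h6 := h4 x
      rw [pi_Z f h1 hx] at h6
      have h5 := y1_shift (k := k) (p := p) (n := n) f hE8 (-x.1.1 0 2) d h6
      rw [← pi_Z f h1 hx] at h5
      show (θ _)⁻¹ * θ (J x) * θ _ = θ (J x) * θ _
      rw [← map_inv, ← map_mul, ← map_mul, ← map_mul]
      exact congrArg θ (Subtype.ext h5))
    (hr1 := by
      intro i d
      show θ _ * θ _ = θ _ * θ _
      rw [← map_mul, ← map_mul]
      exact congrArg θ (Subtype.ext (rr_y1 f i d).eq))
    (hr2 := by
      intro i d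
      show θ _ * θ _ = θ _ * θ _
      rw [← map_mul, ← map_mul]
      exact congrArg θ (Subtype.ext (rr_y2 f i d).eq))
    (hrU := by
      intro i x hx
      obtain ⟨t', ht'⟩ := pi_U (k := k) (p := p) (n := n) f h1 hσ hx
      have h5 := rr_w (k := k) (p := p) (n := n) f i (f (x.1.1 0 1)) (f (x.1.1 0 1)) t'
      rw [← ht'] at h5
      show θ _ * θ (J x) = θ (J x) * θ _
      rw [← map_mul, ← map_mul]
      exact congrArg θ (Subtype.ext h5.eq))
    (hCU := fun c hc u hu => C_U hc hu) (hCC := fun a ha b hb => C_comm ha hb) (nn σ)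
    (hnC := fun c hc => nn_C hc) (Finset.range s) (fun i => t ^ i) 0 (Finset.mem_range.2 hs.pos) (pow_zero t) hT hsum
    hc
    (hcr := by
      intro i
      have h5 : ∀ d : E, (J (c⁻¹ * (nn σ * c * (nn σ)⁻¹)) : ↥(chevE8.group k)) * rr p n f d *
          ((J (c⁻¹ * (nn σ * c * (nn σ)⁻¹)) : ↥(chevE8.group k)))⁻¹ = rr p n f (l * d) := by
        intro d
        apply rr_conj f (J (c⁻¹ * (nn σ * c * (nn σ)⁻¹))).2
        intro d
        rw [hJ, hcc, pi_diag f h1, P4_hh ((map_ne_zero f).2 hβ0), hl, map_mul, map_pow]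
      refine ⟨(l - 1)⁻¹ * i, ?_⟩
      have h6 : l * ((l - 1)⁻¹ * i) = (l - 1)⁻¹ * i + i := by
        have h7 : l - 1 ≠ 0 := sub_ne_zero.2 hl1
        have h8 : (l - 1) * ((l - 1)⁻¹ * i) = i := mul_inv_cancel_left₀ h7 i
        linear_combination h8
      have h7 := h5 ((l - 1)⁻¹ * i)
      rw [h6, rr_add] at h7
      show θ (J _) * θ _ * (θ (J _))⁻¹ = θ _ * θ _
      rw [← map_inv, ← map_mul, ← map_mul, ← map_mul]
      exact congrArg θ (Subtype.ext h7))
  have hadd : ∀ i j, r (i + j) = r i * r j := by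
    intro i j
    show θ _ = θ _ * θ _
    rw [← map_mul]
    exact congrArg θ (Subtype.ext (rr_add f i j))
  have htriv := fun i v => trivial_of_ker ρ r hadd hres i v
  have h5 : ρ (r 1) = 1 := LinearMap.ext fun v => htriv 1 v
  have h6 : r 1 = 1 := hρ (by rw [h5, map_one])
  have h7 : (⟨rr p n f 1, rr_fix f hE8 1⟩ : ↥(fixG k p n)) = 1 := hθ (by rw [map_one]; exact h6)
  exact one_ne_zero (rr_ne f (congrArg Subtype.val h7))

end

end Cfsg.Agent.H992.E8X
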