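import Cfsg.Agent.H967.FaChev
import Cfsg.Agent.S2125

/-!
# Extensions of Chevalley groups by field automorphisms (helper992)

`X` a finite group, `S` a normal subgroup with trivial centralizer, `S ≅ D.group F'` with only field automorphisms modulo
inner automorphisms: for a prime `t` of the index of `S` there is a field `F₀` with `|F'| = |F₀| ^ t` and elements of order
`t s` for all primes `s ≠ t` of `|D.group F₀|`.
-/

set_option autoImplicit false

namespace Cfsg.Agent.H992.E8X.OutStep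

open Cfsg Cfsg.Lie Cfsg.Agent.ChevalleyStructure Cfsg.Agent.ChevalleyStructure.Elts Cfsg.Agent.ChevalleyStructure.NConj Cfsg.Agent.ChevalleyStructure.BNChev Cfsg.Agent.S1042 Cfsg.Agent.H967.CopMat Cfsg.Agent.H967.FaBase
  Cfsg.Agent.H967.FaChev Cfsg.Agent.H967.CopChev

universe u v

/-- every automorphism is inner times a field automorphism -/
theorem exists_field {D : ChevalleyDatum} (hD : InList D) {F : Type v} [Field F] [Finite F]
    (hout : Nat.card (Out ↥(D.group F)) = Nat.card (F ≃+* F)) (a : MulAut ↥(D.group F)) :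
    ∃ (g : ↥(D.group F)) (σ : F ≃+* F), a = MulAut.conj g * fieldAut (stab_group D F) σ := by
  have hfin : Finite (F ≃+* F) := Finite.of_injective (fun f : F ≃+* F => (f : F → F)) DFunLike.coe_injective
  have hpos : 0 < Nat.card (F ≃+* F) := Nat.card_pos
  have hfin2 : Finite (Out ↥(D.group F)) := Nat.finite_of_card_ne_zero (by rw [hout]; exact hpos.ne')
  let π : MulAut ↥(D.group F) →* Out ↥(D.group F) := QuotientGroup.mk' _
  let f : (F ≃+* F) →* Out ↥(D.group F) := π.comp (fieldAut (stab_group D F))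
  have hinj : Function.Injective f := by
    rw [injective_iff_map_eq_one]
    intro σ hσ
    by_contra h
    exact not_inner hD σ h ((QuotientGroup.eq_one_iff _).1 hσ)
  have hsurj : Function.Surjective f :=
    ((Nat.bijective_iff_injective_and_card f).2 ⟨hinj, hout.symm⟩).2
  obtain ⟨σ, hσ⟩ := hsurj (π a)
  have h1 : a * (fieldAut (stab_group D F) σ)⁻¹ ∈ Inn ↥(D.group F) := by
    rw [← QuotientGroup.eq_one_iff]
    show π (a * (fieldAut (stab_group D F) σ)⁻¹) = 1
    rw [map_mul, map_inv, ← hσ]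
    exact mul_inv_cancel _
  obtain ⟨g, hg⟩ := h1
  exact ⟨g, σ, by rw [hg, inv_mul_cancel_right]⟩

/-- **the outer step** -/
theorem out_rel_gen {X : Type u} [Group X] [Finite X] (S : Subgroup X) [S.Normal]
    (hC : Subgroup.centralizer (S : Set X) = ⊥) {D : ChevalleyDatum} (hD : InList D) {F : Type v} [Field F] [Finite F]
    (hout : Nat.card (Out ↥(D.group F)) = Nat.card (F ≃+* F)) (e : ↥S ≃* ↥(D.group F)) {t : ℕ} (ht : t.Prime)
    (htS : t ∣ S.index) :
    ∃ (F₀ : Type v) (_ : Field F₀) (_ : Finite F₀), Nat.card F = Nat.card F₀ ^ t ∧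
      ∀ s : ℕ, s.Prime → s ≠ t → s ∣ Nat.card ↥(D.group F₀) → ∃ x : X, orderOf x = t * s := by
  have : Fact t.Prime := ⟨ht⟩
  have htS' : t ∣ Nat.card (X ⧸ S) := htS
  obtain ⟨z, hz⟩ := exists_prime_orderOf_dvd_card' t htS'
  obtain ⟨h0, rfl⟩ := QuotientGroup.mk'_surjective S z
  let θ : X →* MulAut ↥(D.group F) := (MulAut.congr e).toMonoidHom.comp (MulAut.conjNormal : X →* MulAut ↥S)
  have hθ : ∀ (x : X) (y : ↥S), θ x (e y) = e (MulAut.conjNormal x y) := fun x y => by
    show e (MulAut.conjNormal x (e.symm (e y))) = _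
    rw [e.symm_apply_apply]
  have hθS : ∀ y : ↥S, θ y = MulAut.conj (e y) := fun y => by
    ext1 w
    obtain ⟨w, rfl⟩ := e.surjective w
    rw [hθ, MulAut.conj_apply, ← map_inv, ← map_mul, ← map_mul]
    congr 1
  have hθ1 : ∀ x : X, θ x = 1 → x = 1 := fun x hx => by
    have h1 : x ∈ Subgroup.centralizer (S : Set X) := by
      rw [Subgroup.mem_centralizer_iff]
      intro y hy
      have h2 := hθ x ⟨y, hy⟩
      rw [hx] at h2
      have h3 := e.injective h2
      have h4 : y = x * y * x⁻¹ := congrArg Subtype.val h3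
      calc y * x = x * y * x⁻¹ * x := by rw [← h4]
        _ = x * y := inv_mul_cancel_right _ _
    rw [hC] at h1
    exact Subgroup.mem_bot.1 h1
  obtain ⟨g, σ, hgσ⟩ := exists_field hD hout (θ h0)
  -- the element acting as a field automorphism
  let h : X := ((e.symm g : ↥S) : X)⁻¹ * h0
  have hh : θ h = fieldAut (stab_group D F) σ := by
    have h1 : θ ((e.symm g : ↥S) : X) = MulAut.conj g := by rw [hθS, e.apply_symm_apply]
    show θ (((e.symm g : ↥S) : X)⁻¹ * h0) = _
    rw [map_mul, map_inv, h1, hgσ, inv_mul_cancel_left]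
  have hmk : (QuotientGroup.mk' S) h = QuotientGroup.mk' S h0 := by
    show (QuotientGroup.mk' S) (((e.symm g : ↥S) : X)⁻¹ * h0) = _
    rw [map_mul]
    have : (QuotientGroup.mk' S) (((e.symm g : ↥S) : X)⁻¹) = 1 := by
      rw [QuotientGroup.mk'_apply, QuotientGroup.eq_one_iff]
      exact inv_mem (e.symm g).2
    rw [this, one_mul]
  have hhS : h ∉ S := fun hS => by
    have : (QuotientGroup.mk' S) h = 1 := (QuotientGroup.eq_one_iff h).2 hS
    rw [hmk] at this
    rw [this, orderOf_one] at hz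
    exact ht.one_lt.ne hz
  have hht : h ^ t ∈ S := by
    have : (QuotientGroup.mk' S) (h ^ t) = 1 := by
      rw [map_pow, hmk, ← hz]
      exact pow_orderOf_eq_one _
    exact (QuotientGroup.eq_one_iff _).1 this
  have hσt : σ ^ t = 1 := by
    by_contra hne
    refine not_inner hD (σ ^ t) hne ?_
    rw [map_pow, ← hh, ← map_pow]
    exact ⟨e ⟨h ^ t, hht⟩, (hθS ⟨h ^ t, hht⟩).symm⟩
  have hσ1 : σ ≠ 1 := by
    rintro rfl
    apply hhS
    rw [map_one] at hh
    rw [hθ1 h hh]
    exact one_mem S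
  have hoσ : orderOf σ = t := orderOf_eq_prime hσt hσ1
  have hhne : h ≠ 1 := fun h1 => hhS (h1 ▸ one_mem S)
  have hoh : orderOf h = t := by
    refine orderOf_eq_prime (hθ1 _ ?_) hhne
    rw [map_pow, hh, ← map_pow, hσt, map_one]
  refine ⟨↥(Fx σ), inferInstance, inferInstance, by rw [card_Fx σ, hoσ], fun s hs hst hsd => ?_⟩
  have : Fintype F := Fintype.ofFinite F
  obtain ⟨y, hy, hy'⟩ := fixed_of_dvd σ hs hsd
  -- commuting elements of orders `t` and `s`
  have hcomm : Commute h ((e.symm y : ↥S) : X) := by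
    have h1 := hθ h (e.symm y)
    rw [e.apply_symm_apply, hh, hy'] at h1
    have h2 : e (e.symm y) = e (MulAut.conjNormal h (e.symm y)) := by rw [e.apply_symm_apply]; exact h1
    have h3 := congrArg Subtype.val (e.injective h2)
    have h4 : ((e.symm y : ↥S) : X) = h * ((e.symm y : ↥S) : X) * h⁻¹ := h3
    show h * ((e.symm y : ↥S) : X) = ((e.symm y : ↥S) : X) * h
    calc h * ((e.symm y : ↥S) : X) = h * ((e.symm y : ↥S) : X) * h⁻¹ * h := (inv_mul_cancel_right _ _).symm
      _ = _ := by rw [← h4]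
  have hoy : orderOf ((e.symm y : ↥S) : X) = s := by
    rw [Subgroup.orderOf_coe]
    rw [← hy]
    exact orderOf_injective e.symm.toMonoidHom e.symm.injective y
  refine ⟨h * ((e.symm y : ↥S) : X), ?_⟩
  rw [hcomm.orderOf_mul_eq_mul_orderOf_of_coprime, hoh, hoy]
  rw [hoh, hoy]
  exact (Nat.coprime_primes ht hs).2 hst.symm

/-- the outer step for `E₈` -/
theorem out_rel {X : Type u} [Group X] [Finite X] (S : Subgroup X) [S.Normal]
    (hC : Subgroup.centralizer (S : Set X) = ⊥) {F' : Type v} [Field F'] [Fintype F']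
    (e : ↥S ≃* ↥(chevE8.group F')) {t : ℕ} (ht : t.Prime) (htS : t ∣ S.index) :
    ∃ (F₀ : Type v) (_ : Field F₀) (_ : Fintype F₀), Fintype.card F' = Fintype.card F₀ ^ t ∧
      ∀ s : ℕ, s.Prime → s ≠ t → s ∣ Nat.card ↥(chevE8.group F₀) → ∃ x : X, orderOf x = t * s := by
  obtain ⟨p, hp⟩ := CharP.exists F'
  obtain ⟨n, hpp, hn⟩ := FiniteField.card F' p
  have : Fact p.Prime := ⟨hpp⟩
  have hout : Nat.card (Out ↥(chevE8.group F')) = Nat.card (F' ≃+* F') := by
    rw [S2125.result p n hn, Cfsg.Agent.Lib.FieldAutCard.card_ringAut n.pos hn]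
  obtain ⟨F₀, _, _, h1, h2⟩ := out_rel_gen S hC (D := chevE8) (by simp) hout e ht htS
  have := Fintype.ofFinite F₀
  refine ⟨F₀, inferInstance, inferInstance, ?_, h2⟩
  rw [← Nat.card_eq_fintype_card, ← Nat.card_eq_fintype_card, h1]

end Cfsg.Agent.H992.E8X.OutStep
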