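import Cfsg.Agent.LieClassical.SLGen
import Mathlib

/-!
# `SU₃(Q)` for the antidiagonal form: subgroups `U`, `C`, `Z` and the Bruhat decomposition (helper992)
-/

set_option autoImplicit false

namespace Cfsg.Agent.H992.E8X.Su3

open Matrix Matrix.SpecialLinearGroup

universe v

section Star
variable {E : Type v} [Field E]

/-- the Frobenius map composed with the inverse transpose -/
def st (σ : E →+* E) : SpecialLinearGroup (Fin 3) E →* SpecialLinearGroup (Fin 3) E where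
  toFun A := (SpecialLinearGroup.map σ A)⁻¹.transpose
  map_one' := by
    rw [map_one, inv_one]
    exact Subtype.ext Matrix.transpose_one
  map_mul' A B := by
    rw [map_mul, _root_.mul_inv_rev]
    exact Subtype.ext (by
      rw [coe_transpose, coe_mul, coe_mul, Matrix.transpose_mul, coe_transpose, coe_transpose])

theorem st_transvection (σ : E →+* E) {i j : Fin 3} (hij : i ≠ j) (a : E) :
    st σ (transvection hij a) = transvection hij.symm (-σ a) := by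
  have h1 : SpecialLinearGroup.map σ (transvection hij a) = transvection hij (σ a) := by
    apply Subtype.ext
    show (σ.mapMatrix (1 + single i j a)) = 1 + single i j (σ a)
    rw [map_add, map_one, RingHom.mapMatrix_apply, Matrix.map_single]
  show (SpecialLinearGroup.map σ (transvection hij a))⁻¹.transpose = _
  rw [h1, transvection_inv]
  apply Subtype.ext
  show Matrix.transpose (1 + single i j (-σ a)) = 1 + single j i (-σ a)
  rw [Matrix.transpose_add, Matrix.transpose_one, Matrix.transpose_single]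

/-- minus the antidiagonal matrix -/
def nj (E : Type v) [Field E] : SpecialLinearGroup (Fin 3) E :=
  ⟨!![0, 0, -1; 0, -1, 0; -1, 0, 0], by
    rw [Matrix.det_fin_three]
    simp⟩

theorem nj_coe : (nj E).1 = !![0, 0, -1; 0, -1, 0; -1, 0, 0] := rfl

theorem nj_e : (nj E).1 0 0 = 0 ∧ (nj E).1 0 1 = 0 ∧ (nj E).1 0 2 = -1 ∧ (nj E).1 1 0 = 0 ∧ (nj E).1 1 1 = -1 ∧
    (nj E).1 1 2 = 0 ∧ (nj E).1 2 0 = -1 ∧ (nj E).1 2 1 = 0 ∧ (nj E).1 2 2 = 0 :=
  ⟨rfl, rfl, rfl, rfl, rfl, rfl, rfl, rfl, rfl⟩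

theorem mul_nj (M : Matrix (Fin 3) (Fin 3) E) (i j : Fin 3) : (M * (nj E).1) i j = - M i (2 - j) := by
  obtain ⟨h1, h2, h3, h4, h5, h6, h7, h8, h9⟩ := nj_e (E := E)
  rw [Matrix.mul_apply, Fin.sum_univ_three]
  fin_cases j <;> simp [h1, h2, h3, h4, h5, h6, h7, h8, h9]

theorem nj_mul (M : Matrix (Fin 3) (Fin 3) E) (i j : Fin 3) : ((nj E).1 * M) i j = - M (2 - i) j := by
  obtain ⟨h1, h2, h3, h4, h5, h6, h7, h8, h9⟩ := nj_e (E := E)
  rw [Matrix.mul_apply, Fin.sum_univ_three]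
  fin_cases i <;> simp [h1, h2, h3, h4, h5, h6, h7, h8, h9]

theorem nj_apply (i j : Fin 3) : (nj E).1 i j = if j = 2 - i then -1 else 0 := by
  fin_cases i <;> fin_cases j <;> rfl

theorem nj_mul_nj : nj E * nj E = 1 := by
  apply Subtype.ext
  rw [coe_mul, coe_one]
  show (nj E).1 * (nj E).1 = 1
  ext i j
  rw [mul_nj, nj_apply, Matrix.one_apply]
  fin_cases i <;> fin_cases j <;> simp

theorem nj_inv : (nj E)⁻¹ = nj E := inv_eq_of_mul_eq_one_right nj_mul_nj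

/-- the twisted endomorphism -/
def stJ (σ : E →+* E) : SpecialLinearGroup (Fin 3) E →* SpecialLinearGroup (Fin 3) E :=
  (MulAut.conj (nj E)).toMonoidHom.comp (st σ)

theorem stJ_apply (σ : E →+* E) (A : SpecialLinearGroup (Fin 3) E) : stJ σ A = nj E * st σ A * nj E := by
  show nj E * st σ A * (nj E)⁻¹ = _
  rw [nj_inv]

theorem stJ_transvection (σ : E →+* E) : ∀ {i j : Fin 3} (hij : i ≠ j) (hij' : 2 - j ≠ 2 - i) (a : E),
    stJ σ (transvection hij a) = transvection hij' (-σ a) := by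
  intro i j hij hij' a
  rw [stJ_apply, st_transvection]
  apply Subtype.ext
  show (nj E).1 * (1 + single j i (-σ a)) * (nj E).1 = 1 + single (2 - j) (2 - i) (-σ a)
  ext x y
  rw [mul_nj, nj_mul, neg_neg, Matrix.add_apply, Matrix.add_apply, Matrix.one_apply, Matrix.one_apply,
    Matrix.single_apply, Matrix.single_apply]
  congr 1
  · revert x y
    intro x y
    fin_cases x <;> fin_cases y <;> rfl
  · have h : (j = 2 - x ∧ i = 2 - y) ↔ (2 - j = x ∧ 2 - i = y) := by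
      revert i j x y
      intro i j
      fin_cases i <;> fin_cases j <;> intro _ _ x y <;> fin_cases x <;> fin_cases y <;> simp
    simp only [h]

/-- `SU₃` for the antidiagonal form -/
def SUJ (σ : E →+* E) : Subgroup (SpecialLinearGroup (Fin 3) E) := MonoidHom.eqLocus (stJ σ) (MonoidHom.id _)

variable {σ : E →+* E}

theorem mem_SUJ {A : SpecialLinearGroup (Fin 3) E} : A ∈ SUJ σ ↔ stJ σ A = A := Iff.rfl

/-- the matrix equation -/
theorem mem_SUJ_iff {A : SpecialLinearGroup (Fin 3) E} :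
    A ∈ SUJ σ ↔ A.1 * (nj E).1 * (A.1.map σ)ᵀ = (nj E).1 := by
  rw [mem_SUJ, stJ_apply]
  have h1 : (SpecialLinearGroup.map σ A).transpose * st σ A = 1 := by
    apply Subtype.ext
    rw [coe_mul, coe_one]
    show ((SpecialLinearGroup.map σ A).1)ᵀ * ((SpecialLinearGroup.map σ A)⁻¹.1)ᵀ = 1
    rw [← Matrix.transpose_mul, ← coe_mul, inv_mul_cancel, coe_one, Matrix.transpose_one]
  have h2 : st σ A = ((SpecialLinearGroup.map σ A).transpose)⁻¹ := (inv_eq_of_mul_eq_one_right h1).symm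
  have h3 : nj E * st σ A * nj E = A ↔ A * nj E * (SpecialLinearGroup.map σ A).transpose = nj E := by
    rw [h2]
    constructor
    · intro h
      have h4 : A * nj E = nj E * ((SpecialLinearGroup.map σ A).transpose)⁻¹ := by
        rw [← h, mul_assoc _ (nj E) (nj E), nj_mul_nj, mul_one]
        congr 2
        rw [h]
      rw [h4, inv_mul_cancel_right]
    · intro h
      have h4 : A * nj E = nj E * ((SpecialLinearGroup.map σ A).transpose)⁻¹ := by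
        rw [eq_mul_inv_iff_mul_eq, h]
      rw [← h4, mul_assoc, nj_mul_nj, mul_one]
  rw [h3]
  constructor
  · intro h
    exact congrArg Subtype.val h
  · intro h
    exact Subtype.ext h

end Star

/-! ### The subgroups -/

section Sub
variable {E : Type v} [Field E] {σ : E →+* E}

/-- the entries of a matrix in `SUJ` -/
theorem row_eq {A : SpecialLinearGroup (Fin 3) E} (hA : A ∈ SUJ σ) (i j : Fin 3) :
    A.1 i 0 * σ (A.1 j 2) + A.1 i 1 * σ (A.1 j 1) + A.1 i 2 * σ (A.1 j 0) = - (nj E).1 i j := by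
  have h := congrFun (congrFun (mem_SUJ_iff.1 hA) i) j
  rw [← h, Matrix.mul_apply, Fin.sum_univ_three]
  simp only [mul_nj, Matrix.map_apply, Matrix.transpose_apply]
  show _ = -(-A.1 i 2 * σ (A.1 j 0) + -A.1 i 1 * σ (A.1 j 1) + -A.1 i 0 * σ (A.1 j 2))
  ring

theorem nj_mem : nj E ∈ SUJ σ := by
  have h : st σ (nj E) = nj E := by
    have h1 : SpecialLinearGroup.map σ (nj E) = nj E := by
      apply Subtype.ext
      show (nj E).1.map σ = (nj E).1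
      ext i j
      rw [Matrix.map_apply, nj_apply]
      split_ifs <;> simp
    show (SpecialLinearGroup.map σ (nj E))⁻¹.transpose = nj E
    rw [h1, nj_inv]
    apply Subtype.ext
    show ((nj E).1)ᵀ = (nj E).1
    ext i j
    rw [Matrix.transpose_apply, nj_apply, nj_apply]
    fin_cases i <;> fin_cases j <;> rfl
  rw [mem_SUJ, stJ_apply, h, nj_mul_nj, one_mul]

/-- upper unitriangular -/
def IsU (A : Matrix (Fin 3) (Fin 3) E) : Prop :=
  A 1 0 = 0 ∧ A 2 0 = 0 ∧ A 2 1 = 0 ∧ A 0 0 = 1 ∧ A 1 1 = 1 ∧ A 2 2 = 1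

/-- diagonal -/
def IsD (A : Matrix (Fin 3) (Fin 3) E) : Prop :=
  A 1 0 = 0 ∧ A 2 0 = 0 ∧ A 2 1 = 0 ∧ A 0 1 = 0 ∧ A 0 2 = 0 ∧ A 1 2 = 0

theorem isU_one : IsU (1 : Matrix (Fin 3) (Fin 3) E) := by simp [IsU]

theorem IsU.mul {A B : Matrix (Fin 3) (Fin 3) E} (hA : IsU A) (hB : IsU B) : IsU (A * B) := by
  obtain ⟨a1, a2, a3, a4, a5, a6⟩ := hA
  obtain ⟨b1, b2, b3, b4, b5, b6⟩ := hB
  simp [IsU, Matrix.mul_apply, Fin.sum_univ_three, a1, a2, a3, a4, a5, a6, b1, b2, b3, b4, b5, b6]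

theorem IsU.inv {A : SpecialLinearGroup (Fin 3) E} (hA : IsU A.1) : IsU (A⁻¹).1 := by
  obtain ⟨a1, a2, a3, a4, a5, a6⟩ := hA
  have h : (A⁻¹).1 = A.1.adjugate := coe_inv A
  rw [h, Matrix.adjugate_fin_three]
  simp [IsU, a1, a2, a3, a4, a5, a6]

theorem isD_one : IsD (1 : Matrix (Fin 3) (Fin 3) E) := by simp [IsD]

theorem IsD.mul {A B : Matrix (Fin 3) (Fin 3) E} (hA : IsD A) (hB : IsD B) : IsD (A * B) := by
  obtain ⟨a1, a2, a3, a4, a5, a6⟩ := hA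
  obtain ⟨b1, b2, b3, b4, b5, b6⟩ := hB
  simp [IsD, Matrix.mul_apply, Fin.sum_univ_three, a1, a2, a3, a4, a5, a6, b1, b2, b3, b4, b5, b6]

theorem IsD.inv {A : SpecialLinearGroup (Fin 3) E} (hA : IsD A.1) : IsD (A⁻¹).1 := by
  obtain ⟨a1, a2, a3, a4, a5, a6⟩ := hA
  have h : (A⁻¹).1 = A.1.adjugate := coe_inv A
  rw [h, Matrix.adjugate_fin_three]
  simp [IsD, a1, a2, a3, a4, a5, a6]

variable (σ) in
/-- the unipotent radical of the Borel subgroup -/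
def U : Subgroup (SUJ σ) where
  carrier := {A | IsU A.1.1}
  mul_mem' ha hb := ha.mul hb
  one_mem' := isU_one
  inv_mem' ha := IsU.inv ha

variable (σ) in
/-- the torus -/
def C : Subgroup (SUJ σ) where
  carrier := {A | IsD A.1.1}
  mul_mem' ha hb := ha.mul hb
  one_mem' := isD_one
  inv_mem' ha := IsD.inv ha

variable (σ) in
/-- the centre of `U` -/
def Z : Subgroup (SUJ σ) where
  carrier := {A | IsU A.1.1 ∧ A.1.1 0 1 = 0 ∧ A.1.1 1 2 = 0}
  mul_mem' {a b} ha hb := by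
    refine ⟨ha.1.mul hb.1, ?_, ?_⟩
    · show (a.1.1 * b.1.1) 0 1 = 0
      obtain ⟨a1, a2, a3, a4, a5, a6⟩ := ha.1
      obtain ⟨b1, b2, b3, b4, b5, b6⟩ := hb.1
      simp [Matrix.mul_apply, Fin.sum_univ_three, ha.2.1, hb.2.1, b3]
    · show (a.1.1 * b.1.1) 1 2 = 0
      obtain ⟨a1, a2, a3, a4, a5, a6⟩ := ha.1
      obtain ⟨b1, b2, b3, b4, b5, b6⟩ := hb.1
      simp [Matrix.mul_apply, Fin.sum_univ_three, ha.2.2, hb.2.2, a1]
  one_mem' := ⟨isU_one, by simp, by simp⟩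
  inv_mem' {a} ha := by
    refine ⟨IsU.inv ha.1, ?_, ?_⟩
    · obtain ⟨a1, a2, a3, a4, a5, a6⟩ := ha.1
      have h : (a.1⁻¹).1 = a.1.1.adjugate := coe_inv a.1
      show (a.1⁻¹).1 0 1 = 0
      rw [h, Matrix.adjugate_fin_three]
      simp [ha.2.1, a3]
    · obtain ⟨a1, a2, a3, a4, a5, a6⟩ := ha.1
      have h : (a.1⁻¹).1 = a.1.1.adjugate := coe_inv a.1
      show (a.1⁻¹).1 1 2 = 0
      rw [h, Matrix.adjugate_fin_three]
      simp [ha.2.2, a1]

theorem mem_U {A : SUJ σ} : A ∈ U σ ↔ IsU A.1.1 := Iff.rfl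
theorem mem_C {A : SUJ σ} : A ∈ C σ ↔ IsD A.1.1 := Iff.rfl
theorem mem_Z {A : SUJ σ} : A ∈ Z σ ↔ IsU A.1.1 ∧ A.1.1 0 1 = 0 ∧ A.1.1 1 2 = 0 := Iff.rfl
theorem Z_le_U : Z σ ≤ U σ := fun _ h => h.1

/-- the Weyl element -/
def nn (σ : E →+* E) : SUJ σ := ⟨nj E, nj_mem⟩

theorem nn_mul_nn : nn σ * nn σ = 1 := Subtype.ext nj_mul_nj
theorem nn_inv : (nn σ)⁻¹ = nn σ := inv_eq_of_mul_eq_one_right nn_mul_nn

theorem C_comm {a b : SUJ σ} (ha : a ∈ C σ) (hb : b ∈ C σ) : a * b = b * a := by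
  apply Subtype.ext
  apply Subtype.ext
  show a.1.1 * b.1.1 = b.1.1 * a.1.1
  obtain ⟨a1, a2, a3, a4, a5, a6⟩ := mem_C.1 ha
  obtain ⟨b1, b2, b3, b4, b5, b6⟩ := mem_C.1 hb
  ext i j
  fin_cases i <;> fin_cases j <;>
    simp [Matrix.mul_apply, Fin.sum_univ_three, a1, a2, a3, a4, a5, a6, b1, b2, b3, b4, b5, b6, mul_comm]

theorem nn_C {a : SUJ σ} (ha : a ∈ C σ) : nn σ * a * (nn σ)⁻¹ ∈ C σ := by
  rw [nn_inv, mem_C]
  show IsD ((nj E).1 * a.1.1 * (nj E).1)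
  obtain ⟨a1, a2, a3, a4, a5, a6⟩ := mem_C.1 ha
  have h : ∀ i j, ((nj E).1 * a.1.1 * (nj E).1) i j = a.1.1 (2 - i) (2 - j) := by
    intro i j
    rw [mul_nj, nj_mul, neg_neg]
  refine ⟨?_, ?_, ?_, ?_, ?_, ?_⟩ <;> rw [h]
  · exact a6
  · exact a5
  · exact a4
  · exact a3
  · exact a2
  · exact a1

theorem C_U {c u : SUJ σ} (hc : c ∈ C σ) (hu : u ∈ U σ) : c * u * c⁻¹ ∈ U σ := by
  rw [mem_U]
  show IsU (c.1.1 * u.1.1 * (c.1⁻¹).1)
  have h : (c.1⁻¹).1 = c.1.1.adjugate := coe_inv c.1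
  have hdet := c.1.2
  rw [Matrix.det_fin_three] at hdet
  obtain ⟨a1, a2, a3, a4, a5, a6⟩ := mem_C.1 hc
  obtain ⟨b1, b2, b3, b4, b5, b6⟩ := mem_U.1 hu
  have h2 : c.1.1 0 0 * c.1.1 1 1 * c.1.1 2 2 = 1 := by
    rw [a1, a2, a3] at hdet
    linear_combination hdet
  rw [h, Matrix.adjugate_fin_three]
  simp [IsU, Matrix.mul_apply, Fin.sum_univ_three, a1, a2, a3, a4, a5, a6, b1, b2, b3, b4, b5, b6]
  refine ⟨?_, ?_, ?_⟩ <;> linear_combination h2

/-- diagonal elements of `SUJ` -/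
theorem exists_diag {x y z : E} (h1 : x * y * z = 1) (h2 : x * σ z = 1) (h3 : y * σ y = 1) (h4 : z * σ x = 1) :
    ∃ c ∈ C σ, c.1.1 0 0 = x ∧ c.1.1 1 1 = y ∧ c.1.1 2 2 = z := by
  let c0 : SpecialLinearGroup (Fin 3) E := ⟨!![x, 0, 0; 0, y, 0; 0, 0, z], by
    rw [Matrix.det_fin_three]
    simp [h1]⟩
  have e : c0.1 0 0 = x ∧ c0.1 0 1 = 0 ∧ c0.1 0 2 = 0 ∧ c0.1 1 0 = 0 ∧ c0.1 1 1 = y ∧ c0.1 1 2 = 0 ∧
      c0.1 2 0 = 0 ∧ c0.1 2 1 = 0 ∧ c0.1 2 2 = z := ⟨rfl, rfl, rfl, rfl, rfl, rfl, rfl, rfl, rfl⟩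
  obtain ⟨e1, e2, e3, e4, e5, e6, e7, e8, e9⟩ := e
  have hc : c0 ∈ SUJ σ := by
    rw [mem_SUJ_iff]
    ext i j
    rw [Matrix.mul_apply, Fin.sum_univ_three, nj_apply]
    simp only [mul_nj, Matrix.map_apply, Matrix.transpose_apply]
    show -c0.1 i 2 * σ (c0.1 j 0) + -c0.1 i 1 * σ (c0.1 j 1) + -c0.1 i 0 * σ (c0.1 j 2) = _
    fin_cases i <;> fin_cases j <;> simp [e1, e2, e3, e4, e5, e6, e7, e8, e9, h2, h3, h4]
  exact ⟨⟨c0, hc⟩, ⟨rfl, rfl, rfl, rfl, rfl, rfl⟩, rfl, rfl, rfl⟩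

/-- upper triangular elements -/
theorem of_zero {A : SUJ σ} (h : A.1.1 2 0 = 0) : ∃ v ∈ U σ, ∃ c ∈ C σ, A = v * c := by
  have hdet := A.1.2
  rw [Matrix.det_fin_three] at hdet
  have r22 := row_eq A.2 2 2
  have r12 := row_eq A.2 1 2
  have r02 := row_eq A.2 0 2
  have r20 := row_eq A.2 2 0
  have r11 := row_eq A.2 1 1
  rw [nj_apply, if_neg (by decide), neg_zero, h, map_zero, zero_mul, mul_zero, zero_add, add_zero] at r22
  have h21 : A.1.1 2 1 = 0 := by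
    rcases mul_eq_zero.1 r22 with h1 | h1
    · exact h1
    · exact (map_eq_zero σ).1 h1
  rw [nj_apply, if_neg (by decide), neg_zero, h, h21, map_zero, mul_zero, mul_zero, add_zero, add_zero] at r12
  have h22 : A.1.1 2 2 ≠ 0 := by
    intro h22
    rw [h, h21, h22] at hdet
    simp at hdet
  have h10 : A.1.1 1 0 = 0 := by
    rcases mul_eq_zero.1 r12 with h1 | h1
    · exact h1
    · exact absurd ((map_eq_zero σ).1 h1) h22
  rw [h, h21, h10] at hdet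
  rw [nj_apply, if_pos (by decide), neg_neg, h, h21, map_zero, mul_zero, mul_zero, add_zero, add_zero] at r02
  rw [nj_apply, if_pos (by decide), neg_neg, h, h21, zero_mul, zero_mul, zero_add, zero_add] at r20
  rw [nj_apply, if_pos (by decide), neg_neg, h10, zero_mul, map_zero, mul_zero, zero_add, add_zero] at r11
  obtain ⟨c, hc, c0, c1, c2⟩ := exists_diag (σ := σ) (x := A.1.1 0 0) (y := A.1.1 1 1) (z := A.1.1 2 2)
    (by linear_combination hdet) r02 r11 r20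
  refine ⟨A * c⁻¹, ?_, c, hc, by group⟩
  rw [mem_U]
  show IsU (A.1.1 * (c.1⁻¹).1)
  have hh : (c.1⁻¹).1 = c.1.1.adjugate := coe_inv c.1
  obtain ⟨a1, a2, a3, a4, a5, a6⟩ := mem_C.1 hc
  rw [hh, Matrix.adjugate_fin_three]
  simp [IsU, Matrix.mul_apply, Fin.sum_univ_three, a1, a2, a3, a4, a5, a6, h, h21, h10, c0, c1, c2]
  refine ⟨?_, ?_, ?_⟩ <;> linear_combination hdet

/-- the elements of `U` -/
theorem exists_uu (hσ : ∀ x, σ (σ x) = x) {a b : E} (h : b + σ b + a * σ a = 0) :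
    ∃ u ∈ U σ, u.1.1 0 1 = a ∧ u.1.1 0 2 = b ∧ u.1.1 1 2 = -σ a := by
  let c0 : SpecialLinearGroup (Fin 3) E := ⟨!![1, a, b; 0, 1, -σ a; 0, 0, 1], by
    rw [Matrix.det_fin_three]
    simp⟩
  have e : c0.1 0 0 = 1 ∧ c0.1 0 1 = a ∧ c0.1 0 2 = b ∧ c0.1 1 0 = 0 ∧ c0.1 1 1 = 1 ∧ c0.1 1 2 = -σ a ∧
      c0.1 2 0 = 0 ∧ c0.1 2 1 = 0 ∧ c0.1 2 2 = 1 := ⟨rfl, rfl, rfl, rfl, rfl, rfl, rfl, rfl, rfl⟩
  obtain ⟨e1, e2, e3, e4, e5, e6, e7, e8, e9⟩ := e
  have hc : c0 ∈ SUJ σ := by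
    rw [mem_SUJ_iff]
    ext i j
    rw [Matrix.mul_apply, Fin.sum_univ_three, nj_apply]
    simp only [mul_nj, Matrix.map_apply, Matrix.transpose_apply]
    show -c0.1 i 2 * σ (c0.1 j 0) + -c0.1 i 1 * σ (c0.1 j 1) + -c0.1 i 0 * σ (c0.1 j 2) = _
    fin_cases i <;> fin_cases j <;> simp [e1, e2, e3, e4, e5, e6, e7, e8, e9, hσ]
    · linear_combination -h
  exact ⟨⟨c0, hc⟩, ⟨rfl, rfl, rfl, rfl, rfl, rfl⟩, rfl, rfl, rfl⟩

/-- the entries of the elements of `U` -/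
theorem U_entries {u : SUJ σ} (hu : u ∈ U σ) :
    u.1.1 1 2 = -σ (u.1.1 0 1) ∧ u.1.1 0 2 + σ (u.1.1 0 2) + u.1.1 0 1 * σ (u.1.1 0 1) = 0 := by
  obtain ⟨a1, a2, a3, a4, a5, a6⟩ := mem_U.1 hu
  have r10 := row_eq u.2 1 0
  have r00 := row_eq u.2 0 0
  rw [nj_apply, if_neg (by decide), neg_zero, a1, a5, a4, map_one] at r10
  rw [nj_apply, if_neg (by decide), neg_zero, a4, map_one] at r00
  constructor
  · linear_combination r10
  · linear_combination r00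

/-- **Bruhat decomposition** -/
theorem bruhat (hσ : ∀ x, σ (σ x) = x) (A : SUJ σ) : (∃ v ∈ U σ, ∃ c ∈ C σ, A = v * c) ∨
    ∃ v ∈ U σ, ∃ c ∈ C σ, ∃ u ∈ U σ, A = v * c * nn σ * u := by
  by_cases h : A.1.1 2 0 = 0
  · exact Or.inl (of_zero h)
  right
  have hc : σ (A.1.1 2 0) ≠ 0 := fun h1 => h ((map_eq_zero σ).1 h1)
  have r22 := row_eq A.2 2 2
  rw [nj_apply, if_neg (by decide), neg_zero] at r22
  obtain ⟨u, hu, u1, u2, u3⟩ := exists_uu hσ (a := -A.1.1 2 1 / A.1.1 2 0)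
    (b := (A.1.1 2 1 * (-σ (A.1.1 2 1) / σ (A.1.1 2 0)) - A.1.1 2 2) / A.1.1 2 0) (by
      rw [map_div₀, map_sub, map_mul, map_div₀, map_div₀, map_neg, map_neg, hσ, hσ]
      field_simp
      linear_combination -r22)
  obtain ⟨a1, a2, a3, a4, a5, a6⟩ := mem_U.1 hu
  obtain ⟨v, hv, c, hc', e⟩ := of_zero (A := A * u * nn σ) (by
    show (A.1.1 * u.1.1 * (nj E).1) 2 0 = 0
    rw [mul_nj]
    show -(A.1.1 * u.1.1) 2 2 = 0
    rw [Matrix.mul_apply, Fin.sum_univ_three, u2, u3, a6, map_div₀, map_neg]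
    field_simp
    ring)
  refine ⟨v, hv, c, hc', u⁻¹, (U σ).inv_mem hu, ?_⟩
  rw [← e, mul_assoc (A * u), nn_mul_nn]
  group

end Sub

end Cfsg.Agent.H992.E8X.Su3
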