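import Cfsg.Agent.H992.E8X.Sig
import Cfsg.Agent.H992.E8X.Su3
import Cfsg.Agent.H135.KTwoB
import Cfsg.Agent.AGraded.Hom

/-!
# The homomorphism `SU₃(u⁴) → E₈(k)^σ` (helper992)
-/

set_option autoImplicit false

namespace Cfsg.Agent.H992.E8X

open Cfsg Cfsg.Lie Cfsg.Agent.ChevalleyStructure Cfsg.Agent.ChevalleyStructure.Elts
open Cfsg.Agent.BpExc.FamUntw (phi)
open Cfsg.Agent.AGraded
open Matrix Matrix.SpecialLinearGroup
open Cfsg.Agent.H992.E8X.Su3 (st stJ SUJ stJ_transvection)
open scoped commutatorElement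

universe u v

section Pi
variable {k : Type u} [Field k] {E : Type v} [Field E] (f : E →+* k)

/-- the root elements of the subsystem -/
def x1 (i j : Fin 3) (a : E) : ↥(chevE8.group k) := X (rt i j) ((sn i j : k) * f a)

theorem sn_sq : ∀ i j : Fin 3, i ≠ j → sn i j * sn i j = 1 := by decide

theorem sn_sq' {i j : Fin 3} (h : i ≠ j) : (sn i j : k) * (sn i j : k) = 1 := by
  rw [← Int.cast_mul, sn_sq i j h, Int.cast_one]

theorem steinRel : SteinRel (x1 f) where
  add i j _ a b := by
    show X _ _ = X _ _ * X _ _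
    rw [X_add, map_add, mul_add]
  comm i j l m hij hlm hjl him a b :=
    X_commute (rt_lt l m) (rt_lt i j) (rt_comm i j l m hij hlm hjl him) _ _
  br i j l hij hjl hil a b := by
    show ⁅X _ _, X _ _⁆ = X _ _
    rw [X_br (rt_lt j l) (rt_lt i j) (rt_lt i l) (rt_br i j l hij hjl hil), bc]
    congr 1
    push_cast
    rw [map_mul]
    have h1 := sn_sq' (k := k) hij
    have h2 := sn_sq' (k := k) hjl
    linear_combination ((sn i l : k) * f a * f b * (sn j l : k) * (sn j l : k)) * h1 +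
      ((sn i l : k) * f a * f b) * h2

theorem exists_pi [Finite E] : ∃ π : SpecialLinearGroup (Fin 3) E →* ↥(chevE8.group k),
    (∀ i j (hij : i ≠ j) a, π (transvection hij a) = X (rt i j) ((sn i j : k) * f a)) ∧
    π.range = Subgroup.closure (gens (x1 f)) ∧
      π.ker ≤ Subgroup.center (SpecialLinearGroup (Fin 3) E) := by
  obtain ⟨π, h1, h2, h3⟩ := exists_hom_core (steinRel f) (by rw [Fintype.card_fin])
    fun _ _ hy hygen _ _ hφ _ _ => Cfsg.Agent.H135.KTwo.ker_eq_bot_fin hy (le_refl 2) hygen hφ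
  refine ⟨π, h1, h2, h3 ⟨0, 1, by decide, 1, fun h => ?_⟩⟩
  have h4 := X_eq_one (rt_lt 0 1) h
  rw [map_one, mul_one] at h4
  have h5 := sn_sq' (k := k) (show (0 : Fin 3) ≠ 1 by decide)
  rw [h4, mul_zero] at h5
  exact zero_ne_one h5

end Pi

section L
open Subgroup
variable {k : Type u} [Field k]

variable (k) in
/-- the subgroup of the subsystem -/
def L : Subgroup ↥(chevE8.group k) := closure {g | ∃ i j, i ≠ j ∧ ∃ t, g = X (rt i j) t}

theorem X_mem_L {i j : Fin 3} (h : i ≠ j) (t : k) : X (rt i j) t ∈ L k :=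
  subset_closure ⟨i, j, h, t, rfl⟩

variable {p : ℕ} [Fact p.Prime] [CharP k p] [PerfectRing k p] {n : ℕ}

theorem L_comm {s : ℕ} (hs : s ∈ [1, 2, 3]) {x y : ↥(chevE8.group k)} (hx : x ∈ L k) (hy : y ∈ L k) :
    Commute x ((sig k p n ^ s) y) := by
  have h1 : L k ≤ (centralizer (L k : Set ↥(chevE8.group k))).comap (sig k p n ^ s).toMonoidHom := by
    refine (closure_le _).2 ?_
    rintro _ ⟨i, j, hij, t, rfl⟩
    show (sig k p n ^ s) (X (rt i j) t) ∈ centralizer (L k : Set ↥(chevE8.group k))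
    have h2 : L k ≤ centralizer {(sig k p n ^ s) (X (rt i j) t)} := by
      refine (closure_le _).2 ?_
      rintro _ ⟨i', j', hij', t', rfl⟩
      rw [SetLike.mem_coe, mem_centralizer_singleton_iff]
      have h3 := sig_commute (k := k) (p := p) (n := n) (r := rt i j) (s := rt i' j') (rt_lt i j) (rt_lt i' j')
        (i := s) (j := 0) (rt_cross i j i' j' s hs hij hij') t t'
      rw [pow_zero, MulAut.one_apply] at h3
      exact h3.eq
    rw [mem_centralizer_iff]
    intro z hz
    exact mem_centralizer_singleton_iff.1 (h2 hz)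
  exact (mem_centralizer_iff.1 (h1 hy)) x hx

variable {E : Type v} [Field E] {π : SpecialLinearGroup (Fin 3) E →* ↥(chevE8.group k)}

theorem rearr4 {G : Type*} [Group G] {a0 a1 a2 a3 b0 b1 b2 b3 : G} (h1 : Commute a1 b0)
    (h2 : Commute a2 (b0 * b1)) (h3 : Commute a3 (b0 * b1 * b2)) :
    (a0 * b0) * (a1 * b1) * (a2 * b2) * (a3 * b3) = (a0 * a1 * a2 * a3) * (b0 * b1 * b2 * b3) := by
  have e1 : (a0 * b0) * (a1 * b1) = (a0 * a1) * (b0 * b1) := by
    calc (a0 * b0) * (a1 * b1) = a0 * (b0 * a1) * b1 := by group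
      _ = a0 * (a1 * b0) * b1 := by rw [h1.eq]
      _ = _ := by group
  have e2 : (a0 * a1) * (b0 * b1) * (a2 * b2) = (a0 * a1 * a2) * (b0 * b1 * b2) := by
    calc (a0 * a1) * (b0 * b1) * (a2 * b2) = (a0 * a1) * ((b0 * b1) * a2) * b2 := by group
      _ = (a0 * a1) * (a2 * (b0 * b1)) * b2 := by rw [h2.eq]
      _ = _ := by group
  rw [e1, e2]
  calc (a0 * a1 * a2) * (b0 * b1 * b2) * (a3 * b3) = (a0 * a1 * a2) * ((b0 * b1 * b2) * a3) * b3 := by group
    _ = (a0 * a1 * a2) * (a3 * (b0 * b1 * b2)) * b3 := by rw [h3.eq]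
    _ = _ := by group

variable (k p n) in
/-- the product over half an orbit -/
noncomputable def P4 (g : ↥(chevE8.group k)) : ↥(chevE8.group k) :=
  g * (sig k p n ^ 1) g * (sig k p n ^ 2) g * (sig k p n ^ 3) g

theorem L_comm' {i j : ℕ} (hij : i < j) (hj : j < 4) {x y : ↥(chevE8.group k)} (hx : x ∈ L k) (hy : y ∈ L k) :
    Commute ((sig k p n ^ i) x) ((sig k p n ^ j) y) := by
  have h := L_comm (p := p) (n := n) (s := j - i) (by
    have : j - i = 1 ∨ j - i = 2 ∨ j - i = 3 := by omega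
    rcases this with h | h | h <;> rw [h] <;> simp) hx hy
  have h2 := h.map (sig k p n ^ i).toMonoidHom
  show Commute ((sig k p n ^ i) x) ((sig k p n ^ j) y)
  have h3 : (sig k p n ^ j) y = (sig k p n ^ i) ((sig k p n ^ (j - i)) y) := by
    rw [← MulAut.mul_apply, ← pow_add]
    congr 2
    omega
  rw [h3]
  exact h2

theorem P4_mul {x y : ↥(chevE8.group k)} (hx : x ∈ L k) (hy : y ∈ L k) :
    P4 k p n (x * y) = P4 k p n x * P4 k p n y := by
  unfold P4
  rw [map_mul, map_mul, map_mul]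
  have e0 : ∀ z : ↥(chevE8.group k), z = (sig k p n ^ 0) z := fun z => by rw [pow_zero]; rfl
  refine rearr4 ?_ ?_ ?_
  · have := (L_comm' (p := p) (n := n) (show 0 < 1 by decide) (by decide) hy hx).symm
    rwa [← e0] at this
  · refine Commute.mul_right ?_ ?_
    · have := (L_comm' (p := p) (n := n) (show 0 < 2 by decide) (by decide) hy hx).symm
      rwa [← e0] at this
    · exact (L_comm' (p := p) (n := n) (show 1 < 2 by decide) (by decide) hy hx).symm
  · refine Commute.mul_right (Commute.mul_right ?_ ?_) ?_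
    · have := (L_comm' (p := p) (n := n) (show 0 < 3 by decide) (by decide) hy hx).symm
      rwa [← e0] at this
    · exact (L_comm' (p := p) (n := n) (show 1 < 3 by decide) (by decide) hy hx).symm
    · exact (L_comm' (p := p) (n := n) (show 2 < 3 by decide) (by decide) hy hx).symm

theorem sig_P4 {x : ↥(chevE8.group k)} (hx : x ∈ L k) (h4 : (sig k p n ^ 4) x = x) :
    sig k p n (P4 k p n x) = P4 k p n x := by
  unfold P4
  simp only [map_mul, sig_pow_succ]
  rw [h4]
  have h0 : sig k p n x = (sig k p n ^ 1) x := by rw [pow_one]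
  rw [h0]
  have e0 : ∀ z : ↥(chevE8.group k), z = (sig k p n ^ 0) z := fun z => by rw [pow_zero]; rfl
  have c1 : Commute x ((sig k p n ^ 1) x) := by
    have := L_comm' (p := p) (n := n) (show 0 < 1 by decide) (by decide) hx hx
    rwa [← e0] at this
  have c2 : Commute x ((sig k p n ^ 2) x) := by
    have := L_comm' (p := p) (n := n) (show 0 < 2 by decide) (by decide) hx hx
    rwa [← e0] at this
  have c3 : Commute x ((sig k p n ^ 3) x) := by
    have := L_comm' (p := p) (n := n) (show 0 < 3 by decide) (by decide) hx hx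
    rwa [← e0] at this
  have h : Commute x ((sig k p n ^ 1) x * (sig k p n ^ 2) x * (sig k p n ^ 3) x) := (c1.mul_right c2).mul_right c3
  rw [← h.eq]
  group

variable (k p n) in
/-- the diagonal homomorphism -/
noncomputable def io (hπ : ∀ A, π A ∈ L k) : SpecialLinearGroup (Fin 3) E →* ↥(chevE8.group k) where
  toFun A := P4 k p n (π A)
  map_one' := by
    unfold P4
    simp
  map_mul' A B := by
    rw [map_mul, P4_mul (hπ A) (hπ B)]

theorem io_apply (hπ : ∀ A, π A ∈ L k) (A : SpecialLinearGroup (Fin 3) E) : io k p n hπ A = P4 k p n (π A) := rfl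

theorem two_sub_ne : ∀ {i j : Fin 3}, i ≠ j → 2 - j ≠ 2 - i := by decide

/-- `σ⁴ π = π σ_J` -/
theorem sig_four (f : E →+* k) (h1 : ∀ i j (hij : i ≠ j) a, π (transvection hij a) = X (rt i j) ((sn i j : k) * f a))
    {σ : E →+* E} (hσ : ∀ x, σ x = x ^ (p ^ n) ^ 4) (A : SpecialLinearGroup (Fin 3) E) :
    (sig k p n ^ 4) (π A) = π (stJ σ A) := by
  have key : ∀ (i j : Fin 3) (hij : i ≠ j) (c : E), (sig k p n ^ 4) (π (transvection hij c)) =
      π (stJ σ (transvection hij c)) := by
    intro i j hij c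
    rw [h1, stJ_transvection σ hij (two_sub_ne hij), h1, (sig_it (rt_lt i j) 4 _).2, rt_four i j hij]
    have e1 : (sn i j : k) ^ (p ^ n) ^ 4 = sn i j := by
      rw [← pow_mul]
      exact intCast_pow _ _
    have e2 : (((-(sn (2 - j) (2 - i) * sn i j) : ℤ)) : k) * ((sn i j : k) * f c) ^ (p ^ n) ^ 4 =
        (sn (2 - j) (2 - i) : k) * f (-σ c) := by
      rw [mul_pow, e1, map_neg, hσ, map_pow]
      push_cast
      have h2 := sn_sq' (k := k) hij
      linear_combination (-(sn (2 - j) (2 - i) : k) * f c ^ (p ^ n) ^ 4) * h2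
    exact congrArg (X (rt (2 - j) (2 - i))) e2
  refine Cfsg.Agent.LieClassical.SLGen.transvection_induction
    (fun A => (sig k p n ^ 4) (π A) = π (stJ σ A)) key ?_ A
  intro A B hA hB
  show (sig k p n ^ 4) (π (A * B)) = π (stJ σ (A * B))
  rw [map_mul, map_mul, map_mul, map_mul, hA, hB]

end L

end Cfsg.Agent.H992.E8X
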