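import Cfsg.Agent.H992.E8X.Su3
import Cfsg.Agent.H929.UThreeGeo

/-!
# Elements of order dividing `Q² - Q + 1` in `SU₃(Q)` (helper992)
-/

set_option autoImplicit false

namespace Cfsg.Agent.H992.E8X.Su3

open Matrix Matrix.SpecialLinearGroup

universe v

section Param
variable {E : Type v} [Field E] {σ : E →+* E}

theorem U_param {u : SUJ σ} (hu : u ∈ U σ) : u.1 =
    transvection (show (0 : Fin 3) ≠ 1 by decide) (u.1.1 0 1) *
      transvection (show (1 : Fin 3) ≠ 2 by decide) (-σ (u.1.1 0 1)) *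
        transvection (show (0 : Fin 3) ≠ 2 by decide) (u.1.1 0 2 + u.1.1 0 1 * σ (u.1.1 0 1)) := by
  obtain ⟨a1, a2, a3, a4, a5, a6⟩ := mem_U.1 hu
  obtain ⟨h1, -⟩ := U_entries hu
  apply Subtype.ext
  show u.1.1 = (1 + single 0 1 (u.1.1 0 1)) * (1 + single 1 2 (-σ (u.1.1 0 1))) *
    (1 + single 0 2 (u.1.1 0 2 + u.1.1 0 1 * σ (u.1.1 0 1)))
  ext i j
  fin_cases i <;> fin_cases j <;>
    simp [Matrix.mul_apply, Fin.sum_univ_three, Matrix.one_apply, Matrix.single_apply, Matrix.add_apply,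
      a1, a2, a3, a4, a5, a6, h1]

theorem Z_param {u : SUJ σ} (hu : u ∈ Z σ) : u.1 = transvection (show (0 : Fin 3) ≠ 2 by decide) (u.1.1 0 2) := by
  have h := U_param hu.1
  rw [hu.2.1] at h
  refine h.trans ?_
  apply Subtype.ext
  show (1 + single 0 1 0) * (1 + single 1 2 (-σ 0)) * (1 + single 0 2 (u.1.1 0 2 + 0 * σ 0)) =
    1 + single 0 2 (u.1.1 0 2)
  simp

variable {p : ℕ} [Fact p.Prime] [CharP E p]

theorem pow_U {A : Matrix (Fin 3) (Fin 3) E} (h : IsU A) : A ^ p ^ 2 = 1 := by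
  obtain ⟨a1, a2, a3, a4, a5, a6⟩ := h
  have h3 : (A - 1) ^ 3 = 0 := by
    rw [pow_succ, pow_two]
    ext i j
    fin_cases i <;> fin_cases j <;>
      simp [Matrix.mul_apply, Fin.sum_univ_three, a1, a2, a3, a4, a5, a6]
  have hp : 3 ≤ p ^ 2 := by
    have := (Fact.out : p.Prime).two_le
    nlinarith
  have h4 : (A - 1) ^ p ^ 2 = 0 := by
    rw [← Nat.sub_add_cancel hp, pow_add, h3, mul_zero]
  have h5 : (A - 1) ^ p ^ 2 = A ^ p ^ 2 - 1 ^ p ^ 2 := sub_pow_char_pow_of_commute p 2 (Commute.one_right A)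
  rw [h4, one_pow] at h5
  exact (sub_eq_zero.1 h5.symm)

theorem isPGroup_U : IsPGroup p (U σ) := by
  intro g
  refine ⟨2, ?_⟩
  apply Subtype.ext
  apply Subtype.ext
  apply Subtype.ext
  show ((g.1.1 ^ p ^ 2 : SpecialLinearGroup (Fin 3) E)).1 = 1
  rw [coe_pow]
  exact pow_U g.2

/-- an element of prime order prime to `|E^*|` and `p` is not in the Borel subgroup -/
theorem not_borel {A : SUJ σ} {s : ℕ} (hs : s.Prime) (hsp : s ≠ p) (hA : A ^ s = 1) (h1 : A ≠ 1)
    (hE : ∀ x : E, x ^ s = 1 → x = 1) : ¬ ∃ v ∈ U σ, ∃ c ∈ C σ, A = v * c := by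
  rintro ⟨v, hv, c, hc, rfl⟩
  obtain ⟨a1, a2, a3, a4, a5, a6⟩ := mem_U.1 hv
  obtain ⟨b1, b2, b3, b4, b5, b6⟩ := mem_C.1 hc
  -- the diagonal entries
  have key : ∀ m : ℕ, ((v * c) ^ m).1.1 1 0 = 0 ∧ ((v * c) ^ m).1.1 2 0 = 0 ∧ ((v * c) ^ m).1.1 2 1 = 0 ∧
      ((v * c) ^ m).1.1 0 0 = c.1.1 0 0 ^ m ∧ ((v * c) ^ m).1.1 1 1 = c.1.1 1 1 ^ m ∧
      ((v * c) ^ m).1.1 2 2 = c.1.1 2 2 ^ m := by
    intro m
    induction m with
    | zero =>
      rw [pow_zero]
      simp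
    | succ m ih =>
      obtain ⟨i1, i2, i3, i4, i5, i6⟩ := ih
      rw [pow_succ]
      have e : ∀ i j, ((v * c) ^ m * (v * c)).1.1 i j = (((v * c) ^ m).1.1 * (v.1.1 * c.1.1)) i j := fun i j => rfl
      refine ⟨?_, ?_, ?_, ?_, ?_, ?_⟩ <;> rw [e] <;>
        simp only [Matrix.mul_apply, Fin.sum_univ_three, a1, a2, a3, a4, a5, a6, b1, b2, b3, b4, b5, b6, i1, i2, i3, i4,
        i5, i6, pow_succ] <;> ring
  obtain ⟨-, -, -, k4, k5, k6⟩ := key s
  rw [hA] at k4 k5 k6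
  have c0 : c.1.1 0 0 = 1 := hE _ (by rw [← k4]; rfl)
  have c1 : c.1.1 1 1 = 1 := hE _ (by rw [← k5]; rfl)
  have c2 : c.1.1 2 2 = 1 := hE _ (by rw [← k6]; rfl)
  have hc1 : c = 1 := by
    apply Subtype.ext
    apply Subtype.ext
    show c.1.1 = 1
    ext i j
    fin_cases i <;> fin_cases j <;> simp [b1, b2, b3, b4, b5, b6, c0, c1, c2]
  rw [hc1, mul_one] at hA h1
  obtain ⟨m, hm⟩ := isPGroup_U (σ := σ) (p := p) ⟨v, hv⟩
  have hm' : v ^ p ^ m = 1 := congrArg Subtype.val hm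
  apply h1
  have h3 : orderOf v ∣ s := orderOf_dvd_of_pow_eq_one hA
  have h4 : orderOf v ∣ p ^ m := orderOf_dvd_of_pow_eq_one hm'
  have h5 : Nat.Coprime s (p ^ m) := Nat.Coprime.pow_right m ((Nat.coprime_primes hs Fact.out).2 hsp)
  exact orderOf_eq_one_iff.1 (Nat.eq_one_of_dvd_coprimes h5 h3 h4)

end Param

section Order
variable {E : Type v} [Field E] {σ : E →+* E}

/-- transport from a hyperbolic frame -/
theorem of_frame (hσ : ∀ x, σ (σ x) = x) {M g : Matrix (Fin 3) (Fin 3) E} (hM : Mᵀ * M.map σ = - (nj E).1)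
    (hg : g * (g.map σ)ᵀ = 1) (hdet : g.det = 1) :
    ∃ t : SUJ σ, ∃ N : Matrix (Fin 3) (Fin 3) E, M * N = 1 ∧ N * M = 1 ∧ t.1.1 = N * g * M := by
  set J : Matrix (Fin 3) (Fin 3) E := -(nj E).1 with hJ
  have hJJ : J * J = 1 := by
    rw [hJ, neg_mul_neg]
    exact congrArg Subtype.val (nj_mul_nj (E := E))
  have hJT : Jᵀ = J := by
    rw [hJ]
    ext i j
    rw [Matrix.transpose_apply, Matrix.neg_apply, Matrix.neg_apply, nj_apply, nj_apply]
    fin_cases i <;> fin_cases j <;> rfl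
  have hJσ : J.map σ = J := by
    rw [hJ]
    ext i j
    rw [Matrix.map_apply, Matrix.neg_apply, nj_apply]
    split_ifs <;> simp
  set N : Matrix (Fin 3) (Fin 3) E := J * (M.map σ)ᵀ with hN
  have hMσσ : (M.map σ).map σ = M := by
    ext i j
    simp [hσ]
  -- M̄ᵀ M = J
  have h1 : (M.map σ)ᵀ * M = J := by
    have := congrArg Matrix.transpose hM
    rwa [Matrix.transpose_mul, Matrix.transpose_transpose, hJT] at this
  have hNM : N * M = 1 := by rw [hN, Matrix.mul_assoc, h1, hJJ]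
  have hMN : M * N = 1 := mul_eq_one_comm.1 hNM
  have hNσ : N.map σ = J * Mᵀ := by
    rw [hN, Matrix.map_mul, hJσ, Matrix.transpose_map, hMσσ]
  let t : SpecialLinearGroup (Fin 3) E := ⟨N * g * M, by
    rw [Matrix.det_mul, Matrix.det_mul, hdet, mul_one, ← Matrix.det_mul, hNM, Matrix.det_one]⟩
  have ht : t ∈ SUJ σ := by
    rw [mem_SUJ_iff]
    show N * g * M * (nj E).1 * ((N * g * M).map σ)ᵀ = (nj E).1
    have e1 : (nj E).1 = -J := by rw [hJ, neg_neg]
    rw [Matrix.map_mul, Matrix.map_mul, Matrix.transpose_mul, Matrix.transpose_mul, hNσ, Matrix.transpose_mul,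
      Matrix.transpose_transpose, hJT, e1]
    have e2 : M * J * (M.map σ)ᵀ = 1 := by rw [Matrix.mul_assoc]; exact hMN
    calc N * g * M * -J * ((M.map σ)ᵀ * ((g.map σ)ᵀ * (M * J)))
        = -(N * g * (M * J * (M.map σ)ᵀ) * (g.map σ)ᵀ * (M * J)) := by
          simp only [Matrix.mul_neg, Matrix.neg_mul, Matrix.mul_assoc]
      _ = -(N * (g * (g.map σ)ᵀ) * (M * J)) := by rw [e2]; simp only [Matrix.mul_one, Matrix.mul_assoc]
      _ = -(N * M * J) := by rw [hg]; simp only [Matrix.mul_one, Matrix.mul_assoc]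
      _ = -J := by rw [hNM, Matrix.one_mul]
  exact ⟨⟨t, ht⟩, N, hMN, hNM, rfl⟩

variable [Fintype E] {Q : ℕ}

open Cfsg Cfsg.Agent.LieClassical.HermSiegel Cfsg.Agent.LieClassical.HermBasic Cfsg.Agent.H929.U3 in
theorem exists_order (hE : Fintype.card E = Q ^ 2) (hσ : ∀ x, σ x = x ^ Q) {s : ℕ} (hs : s.Prime)
    (hd : s ∣ Q ^ 3 + 1) : ∃ t : SUJ σ, t ^ s = 1 ∧ t ≠ 1 := by
  classical
  have hσσ : ∀ x, σ (σ x) = x := by
    intro x
    rw [hσ, hσ, ← pow_mul, ← pow_two, ← hE, FiniteField.pow_card]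
  -- an isotropic vector
  have hQ := two_le hE
  obtain ⟨e, he, he0⟩ : ∃ e : Fin 3 → E, hermForm 3 E Q e e = 0 ∧ e ≠ 0 := by
    by_contra hcon
    push Not at hcon
    have h5 := Cfsg.Agent.LieClassical.HermCount.card_isotropic hE 3
    rw [if_neg (by decide)] at h5
    simp only [Nat.reduceSub] at h5
    have h6 : Subsingleton {v : Fin 3 → E // hermForm 3 E Q v v = 0} :=
      ⟨fun a b => Subtype.ext ((hcon a.1 a.2).trans (hcon b.1 b.2).symm)⟩
    have h7 := Finite.card_le_one_iff_subsingleton.2 h6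
    rw [h5] at h7
    have h8 : 0 < (Q ^ 3 + 1) * (Q ^ 2 - 1) := by
      have : 1 < Q ^ 2 := Nat.one_lt_pow (by norm_num) (by omega)
      exact Nat.mul_pos (by positivity) (by omega)
    omega
  obtain ⟨e₂, e₃, hfr⟩ := exists_fr hE he he0
  -- an element of order `s` of `SU₃`
  have hcard : s ∣ Nat.card (SU 3 E Q) := by
    rw [card_SU3 hE]
    exact Dvd.dvd.mul_left (Dvd.dvd.mul_right hd _) _
  have : Fact s.Prime := ⟨hs⟩
  obtain ⟨g, hg⟩ := exists_prime_orderOf_dvd_card' s hcard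
  have hform : ∀ u v : Fin 3 → E, hermForm 3 E Q u v = u 0 * σ (v 0) + u 1 * σ (v 1) + u 2 * σ (v 2) := by
    intro u v
    rw [hermForm, Fin.sum_univ_three, hσ, hσ, hσ]
  let M : Matrix (Fin 3) (Fin 3) E := Matrix.of fun i j => ![e, e₂, e₃] j i
  have hM : Mᵀ * M.map σ = - (nj E).1 := by
    have h11 := hfr.h11
    have h12 := hfr.h12
    have h13 := hfr.h13
    have h22 := hfr.h22
    have h23 := hfr.h23
    have h33 := hfr.h33
    have h21 := Fr.h21 hE hfr
    have h31 := Fr.h31 hE hfr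
    have h32 := Fr.h32 hE hfr
    rw [hform] at h11 h12 h13 h22 h23 h33 h21 h31 h32
    ext i j
    rw [Matrix.mul_apply, Fin.sum_univ_three, Matrix.neg_apply, nj_apply]
    simp only [Matrix.transpose_apply, Matrix.map_apply]
    fin_cases i <;> fin_cases j
    · simpa [M] using h11
    · simpa [M] using h12
    · simpa [M] using h13
    · simpa [M] using h21
    · simpa [M] using h22
    · simpa [M] using h23
    · simpa [M] using h31
    · simpa [M] using h32
    · simpa [M] using h33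
  have hgg : g.1.1 * (g.1.1.map σ)ᵀ = 1 := by
    have h1 := (mem_SU_iff g.1).1 g.2
    rw [← mul_eq_one_comm]
    rw [← Matrix.transpose_inj, Matrix.transpose_mul, Matrix.transpose_transpose, Matrix.transpose_one]
    ext i j
    have h2 := h1 (Pi.single i 1) (Pi.single j 1)
    rw [Matrix.mulVec_single_one, Matrix.mulVec_single_one] at h2
    rw [Matrix.mul_apply, Fin.sum_univ_three]
    rw [hform, hform] at h2
    simp only [Matrix.transpose_apply, Matrix.map_apply, Matrix.col_apply] at h2 ⊢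
    rw [h2, Matrix.one_apply]
    fin_cases i <;> fin_cases j <;> simp [Pi.single_apply]
  obtain ⟨t, N, hMN, hNM, ht⟩ := of_frame hσσ hM hgg g.1.2
  have hpow : ∀ m : ℕ, (t ^ m).1.1 = N * (g ^ m).1.1 * M := by
    intro m
    induction m with
    | zero =>
      rw [pow_zero, pow_zero]
      show (1 : Matrix (Fin 3) (Fin 3) E) = N * 1 * M
      rw [Matrix.mul_one, hNM]
    | succ m ih =>
      rw [pow_succ, pow_succ]
      show (t ^ m).1.1 * t.1.1 = N * ((g ^ m).1.1 * g.1.1) * M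
      rw [ih, ht]
      calc N * (g ^ m).1.1 * M * (N * g.1.1 * M) = N * (g ^ m).1.1 * (M * N) * g.1.1 * M := by
            simp only [Matrix.mul_assoc]
        _ = _ := by rw [hMN]; simp only [Matrix.mul_one, Matrix.mul_assoc]
  refine ⟨t, ?_, ?_⟩
  · apply Subtype.ext
    apply Subtype.ext
    rw [hpow, ← hg, pow_orderOf_eq_one]
    show N * 1 * M = 1
    rw [Matrix.mul_one, hNM]
  · intro h1
    have h2 := hpow 1
    rw [pow_one, pow_one, h1] at h2
    have h3 : g.1.1 = 1 := by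
      calc g.1.1 = (M * N) * g.1.1 * (M * N) := by rw [hMN, Matrix.one_mul, Matrix.mul_one]
        _ = M * (N * g.1.1 * M) * N := by simp only [Matrix.mul_assoc]
        _ = M * (1 : Matrix (Fin 3) (Fin 3) E) * N := by rw [← h2]; rfl
        _ = 1 := by rw [Matrix.mul_one, hMN]
    have h4 : g = 1 := Subtype.ext (Subtype.ext h3)
    rw [h4, orderOf_one] at hg
    exact hs.one_lt.ne hg

end Order

end Cfsg.Agent.H992.E8X.Su3
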