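import Cfsg.Agent.H992.E8X.Torus
import Cfsg.Agent.H992.E8X.Su3b
import Cfsg.Agent.H992.E8X.Crit

/-!
# Cross characteristic modules for `E₈(u)`: elements of prime order dividing `u⁸ - u⁴ + 1` have fixed vectors (helper992)
-/

set_option autoImplicit false

namespace Cfsg.Agent.H992.E8X

open Cfsg Cfsg.Lie Cfsg.Agent.ChevalleyStructure Cfsg.Agent.ChevalleyStructure.Elts
open Cfsg.Agent.AGraded
open Matrix Matrix.SpecialLinearGroup
open Cfsg.Agent.H992.E8X.Su3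
open Cfsg.Agent.H992.RkOne
open scoped commutatorElement

universe u v w

theorem it_142_4 : it 142 4 = (201, 1) := by decide +kernel

section
variable {k : Type u} [Field k] {p : ℕ} [Fact p.Prime] [CharP k p] [PerfectRing k p] {n : ℕ}
variable {E : Type v} [Field E] (f : E →+* k)
variable {π : SpecialLinearGroup (Fin 3) E →* ↥(chevE8.group k)}

theorem pi_mem_L (h2 : π.range = Subgroup.closure (gens (x1 f))) (A : SpecialLinearGroup (Fin 3) E) : π A ∈ L k := by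
  have h4 : π A ∈ Subgroup.closure (gens (x1 f)) := by rw [← h2]; exact ⟨A, rfl⟩
  have h5 : Subgroup.closure (gens (x1 f)) ≤ L k := by
    refine (Subgroup.closure_le _).2 ?_
    rintro _ ⟨i, j, hij, a, rfl⟩
    exact X_mem_L hij _
  exact h5 h4

variable (h1 : ∀ i j (hij : i ≠ j) a, π (transvection hij a) = X (rt i j) ((sn i j : k) * f a))
variable {σ : E →+* E} (hσ : ∀ x, σ x = x ^ (p ^ n) ^ 4) (hπ : ∀ A, π A ∈ L k)

include h1 hσ in
theorem sig_four_pi (x : SUJ σ) : (sig k p n ^ 4) (π x.1) = π x.1 := by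
  rw [sig_four f h1 hσ]
  exact congrArg π (mem_SUJ.1 x.2)

variable (p n) in
/-- the homomorphism `SU₃ → E₈(k)^σ` -/
noncomputable def jj (hπ : ∀ A, π A ∈ L k) (h : ∀ x : SUJ σ, (sig k p n ^ 4) (π x.1) = π x.1) :
    ↥(SUJ σ) →* ↥(fixG k p n) :=
  ((io k p n hπ).comp (SUJ σ).subtype).codRestrict (fixG k p n) fun x => sig_P4 (hπ x.1) (h x)

theorem coe_jj (h : ∀ x : SUJ σ, (sig k p n ^ 4) (π x.1) = π x.1) (x : SUJ σ) :
    (jj p n hπ h x : ↥(chevE8.group k)) = P4 k p n (π x.1) := rfl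

include h1 in
theorem pi_Z {x : SUJ σ} (hx : x ∈ Z σ) : π x.1 = X 215 (f (-x.1.1 0 2)) := by
  have h3 := congrArg π (Z_param hx)
  rw [h1] at h3
  rw [h3]
  show X 215 (((-1 : ℤ) : k) * f (x.1.1 0 2)) = _
  congr 1
  rw [map_neg]
  push_cast
  ring

include h1 hσ in
theorem pi_U {x : SUJ σ} (hx : x ∈ U σ) : ∃ t : k,
    π x.1 = X 142 (f (x.1.1 0 1)) * (sig k p n ^ 4) (X 142 (f (x.1.1 0 1))) * X 215 t := by
  have h3 := congrArg π (U_param hx)
  rw [map_mul, map_mul, h1, h1, h1] at h3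
  have h4 := (sig_it (k := k) (p := p) (n := n) (r := 142) (by decide) 4 (f (x.1.1 0 1))).2
  rw [it_142_4] at h4
  refine ⟨((sn 0 2 : ℤ) : k) * f (x.1.1 0 2 + x.1.1 0 1 * σ (x.1.1 0 1)), ?_⟩
  rw [h3, h4]
  have e1 : ((sn 0 1 : ℤ) : k) * f (x.1.1 0 1) = f (x.1.1 0 1) := by
    rw [show sn 0 1 = 1 from rfl, Int.cast_one, one_mul]
  have e2 : ((sn 1 2 : ℤ) : k) * f (-σ (x.1.1 0 1)) = ((1 : ℤ) : k) * f (x.1.1 0 1) ^ (p ^ n) ^ 4 := by
    rw [show sn 1 2 = -1 from rfl, map_neg, hσ, map_pow]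
    push_cast
    ring
  rw [e1, e2]
  rfl

/-- the torus element -/
theorem exists_cc (hσσ : ∀ x, σ (σ x) = x) {b : E} (hb : b ≠ 0) :
    ∃ c ∈ C σ, (c⁻¹ * (nn σ * c * (nn σ)⁻¹)).1 =
      diag2n (show (0 : Fin 3) ≠ 2 by decide) (b * σ b)⁻¹ (inv_ne_zero (mul_ne_zero hb (by simpa using hb))) := by
  have hb' : σ b ≠ 0 := by simpa using hb
  obtain ⟨c, hc, c0, c1, c2⟩ := exists_diag (σ := σ) (x := b) (y := σ b / b) (z := (σ b)⁻¹)
    (by field_simp) (by rw [map_inv₀, hσσ]; field_simp) (by rw [map_div₀, hσσ]; field_simp) (by field_simp)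
  refine ⟨c, hc, ?_⟩
  obtain ⟨a1, a2, a3, a4, a5, a6⟩ := mem_C.1 hc
  apply Subtype.ext
  rw [diag2n_coe, nn_inv]
  have h : (c.1⁻¹).1 = c.1.1.adjugate := coe_inv c.1
  show (c.1⁻¹).1 * ((nj E).1 * c.1.1 * (nj E).1) = _
  ext i j
  rw [h, Matrix.mul_apply, Fin.sum_univ_three]
  simp only [mul_nj, nj_mul, neg_neg, Matrix.adjugate_fin_three]
  fin_cases i <;> fin_cases j <;> simp [a1, a2, a3, a4, a5, a6, c0, c1, c2] <;> field_simp

include h1 in
theorem pi_diag {a : E} (ha : a ≠ 0) : π (diag2n (show (0 : Fin 3) ≠ 2 by decide) a ha) = hh (f a) := by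
  rw [Cfsg.Agent.LieClassical.SLGen.diag2n_decompose, map_mul, map_mul, map_mul, map_mul, map_mul, h1, h1, h1, h1]
  have e1 : ∀ t : k, ((sn 0 2 : ℤ) : k) * t = -t := fun t => by
    rw [show sn 0 2 = -1 from rfl]; push_cast; ring
  have e2 : ∀ t : k, ((sn 2 0 : ℤ) : k) * t = -t := fun t => by
    rw [show sn 2 0 = -1 from rfl]; push_cast; ring
  simp only [e1, e2, map_neg, map_inv₀, map_one, neg_neg]
  rfl

end

end Cfsg.Agent.H992.E8X
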