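import Cfsg.Agent.H992.E8X.Shift

/-!
# The data of the criterion in `E₈(k)^σ` (helper992)
-/

set_option autoImplicit false

namespace Cfsg.Agent.H992.E8X

open Cfsg Cfsg.Lie Cfsg.Agent.ChevalleyStructure Cfsg.Agent.ChevalleyStructure.Elts
open Matrix.SpecialLinearGroup
open Cfsg.Agent.H992.E8X.Su3 (st stJ SUJ stJ_transvection)
open scoped commutatorElement

universe u v

theorem comm_inv {G : Type*} [Group G] (a b : G) : ⁅a⁻¹, b⁻¹⁆ = a⁻¹ * b⁻¹ * a * b := by
  rw [commutatorElement_def, inv_inv, inv_inv]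

section
variable {k : Type u} [Field k] {p : ℕ} [Fact p.Prime] [CharP k p] [PerfectRing k p] {n : ℕ}

theorem sig_zero (g : ↥(chevE8.group k)) : (sig k p n ^ 0) g = g := by rw [pow_zero]; rfl

theorem sig_sig (i j : ℕ) (g : ↥(chevE8.group k)) :
    (sig k p n ^ i) ((sig k p n ^ j) g) = (sig k p n ^ (i + j)) g := by
  rw [← MulAut.mul_apply, ← pow_add]

/-- `P4 g` is fixed by `σ` -/
theorem sig_P4' {g : ↥(chevE8.group k)} (h4 : (sig k p n ^ 4) g = g) (c1 : Commute g ((sig k p n ^ 1) g))
    (c2 : Commute g ((sig k p n ^ 2) g)) (c3 : Commute g ((sig k p n ^ 3) g)) :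
    sig k p n (P4 k p n g) = P4 k p n g := by
  unfold P4
  simp only [map_mul, sig_pow_succ]
  rw [h4]
  have h0 : sig k p n g = (sig k p n ^ 1) g := by rw [pow_one]
  rw [h0]
  have h : Commute g ((sig k p n ^ 1) g * (sig k p n ^ 2) g * (sig k p n ^ 3) g) := (c1.mul_right c2).mul_right c3
  rw [← h.eq]
  group

/-- shifting `P4 w` -/
theorem shiftP4 {w R y : ↥(chevE8.group k)} (hy : sig k p n y = y) (h : y⁻¹ * w * y = w * R)
    (hc : ∀ i < 4, ∀ j < 4, Commute ((sig k p n ^ i) R) ((sig k p n ^ j) w)) :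
    y⁻¹ * P4 k p n w * y = P4 k p n w * P4 k p n R := by
  have key : ∀ i, y⁻¹ * (sig k p n ^ i) w * y = (sig k p n ^ i) w * (sig k p n ^ i) R := by
    intro i
    have h1 := congrArg (sig k p n ^ i) h
    rw [map_mul, map_mul, map_mul, map_inv, pow_sig_fix hy] at h1
    exact h1
  have hc0 : ∀ j < 4, Commute R ((sig k p n ^ j) w) := fun j hj => by
    have := hc 0 (by decide) j hj
    rwa [sig_zero] at this
  unfold P4
  refine shift4 h (key 1) (key 2) (key 3) (hc0 1 (by decide)) ?_ ?_
  · exact (hc0 2 (by decide)).mul_left (hc 1 (by decide) 2 (by decide))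
  · exact ((hc0 3 (by decide)).mul_left (hc 1 (by decide) 3 (by decide))).mul_left (hc 2 (by decide) 3 (by decide))

theorem fixP4 {w y : ↥(chevE8.group k)} (hy : sig k p n y = y) (h : y⁻¹ * w * y = w) :
    y⁻¹ * P4 k p n w * y = P4 k p n w := by
  have key : ∀ i, y⁻¹ * (sig k p n ^ i) w * y = (sig k p n ^ i) w := by
    intro i
    have h1 := congrArg (sig k p n ^ i) h
    rw [map_mul, map_mul, map_inv, pow_sig_fix hy] at h1
    exact h1
  unfold P4
  calc y⁻¹ * (w * (sig k p n ^ 1) w * (sig k p n ^ 2) w * (sig k p n ^ 3) w) * y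
      = (y⁻¹ * w * y) * (y⁻¹ * (sig k p n ^ 1) w * y) * (y⁻¹ * (sig k p n ^ 2) w * y) *
          (y⁻¹ * (sig k p n ^ 3) w * y) := by group
    _ = _ := by rw [h, key, key, key]

variable {E : Type v} [Field E] (f : E →+* k) (hE : ∀ a : E, a ^ (p ^ n) ^ 8 = a)

variable (p n) in
/-- half orbit products of the central root elements -/
noncomputable def Rd (d : E) : ↥(chevE8.group k) := X 235 (f d) * (sig k p n ^ 4) (X 235 (f d))

variable (p n) in
/-- the elements of the centre of the radical -/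
noncomputable def rr (d : E) : ↥(chevE8.group k) := P4 k p n (Rd p n f d)

variable (p n) in
/-- the second shifting elements -/
noncomputable def y2 (d : E) : ↥(chevE8.group k) := P8 k p n (X 232 (f d))

variable (p n) in
/-- the commutator of the first two noncommuting factors of `y₁` -/
noncomputable def c0 (d : E) : ↥(chevE8.group k) :=
  (X 186 (f d))⁻¹ * ((sig k p n ^ 2) (X 186 (f d)))⁻¹ * X 186 (f d) * (sig k p n ^ 2) (X 186 (f d))

variable (p n) in
/-- the first shifting elements -/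
noncomputable def y1 (d : E) : ↥(chevE8.group k) :=
  P8 k p n (X 186 (f d)) * (sig k p n ^ 6) (c0 p n f d) * (sig k p n ^ 7) (c0 p n f d)

theorem c0_eq (d : E) : ∃ v : k, c0 p n f d = X 219 v := by
  have h1 := sig_it (k := k) (p := p) (n := n) (r := 186) (by decide) 2 (f d)
  have h2 := it_Q 2
  simp only [Fin.isValue, Fin.coe_ofNat_eq_mod, Nat.reduceMod] at h2
  rw [h2] at h1
  rw [c0, ← comm_inv, h1.2, ← X_neg, ← X_neg]
  exact ⟨_, X_br (r := 156) (s := 186) (q := 219) (by decide) (by decide) (by decide) br_QQ _ _⟩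

include hE in
theorem f_pow (d : E) : (f d) ^ (p ^ n) ^ 8 = f d := by rw [← map_pow, hE]

include hE in
theorem eight_Q (d : E) : (sig k p n ^ 8) (X 186 (f d)) = X 186 (f d) :=
  sig_eight (by decide) (it8 186 (by decide)) (f_pow f hE d)

include hE in
theorem y2_fix (d : E) : sig k p n (y2 p n f d) = y2 p n f d := by
  apply sig_P8 (sig_eight (by decide) (it8 232 (by decide)) (f_pow f hE d))
  intro i hi
  have hi8 : i < 8 := by
    simp only [List.mem_cons, List.not_mem_nil, or_false] at hi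
    omega
  have := ac_NN (k := k) (p := p) (n := n) 0 (by decide) i hi8 (f d) (f d)
  rwa [sig_zero] at this

include hE in
theorem y1_fix (d : E) : sig k p n (y1 p n f d) = y1 p n f d := by
  obtain ⟨v, hv⟩ := c0_eq (p := p) (n := n) f d
  have h8 := eight_Q f hE d
  have hc8 : (sig k p n ^ 8) (c0 p n f d) = c0 p n f d := by
    rw [c0, map_mul, map_mul, map_mul, map_inv, map_inv, sig_sig, h8, show 8 + 2 = 2 + 8 by rfl, ← sig_sig 2 8, h8]
  have hS : ∀ i < 8, ∀ j < 8, Commute ((sig k p n ^ i) (c0 p n f d)) ((sig k p n ^ j) (X 186 (f d))) := by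
    intro i hi j hj
    rw [hv]
    exact ac_SQ i hi j hj _ _
  have hSS : ∀ i < 8, ∀ j < 8, Commute ((sig k p n ^ i) (c0 p n f d)) ((sig k p n ^ j) (c0 p n f d)) := by
    intro i hi j hj
    rw [hv]
    exact ac_SS i hi j hj _ _
  have hS0 : ∀ j < 8, Commute (c0 p n f d) ((sig k p n ^ j) (X 186 (f d))) := fun j hj => by
    have := hS 0 (by decide) j hj
    rwa [sig_zero] at this
  have hSS0 : ∀ j < 8, Commute (c0 p n f d) ((sig k p n ^ j) (c0 p n f d)) := fun j hj => by
    have := hSS 0 (by decide) j hj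
    rwa [sig_zero] at this
  have hQ : ∀ i < 8, i ≠ 2 → i ≠ 6 → Commute ((sig k p n ^ i) (X 186 (f d))) (X 186 (f d)) := by
    intro i hi h2 h6
    have := c_QQ (k := k) (p := p) (n := n) (i := i) (j := 0) hi (by decide) (by omega) (by omega) (f d) (f d)
    rwa [sig_zero] at this
  unfold y1 P8
  simp only [map_mul, sig_pow_succ]
  rw [h8, hc8]
  have h0 : sig k p n (X 186 (f d)) = (sig k p n ^ 1) (X 186 (f d)) := by rw [pow_one]
  rw [h0]
  refine rotc (hQ 7 (by decide) (by decide) (by decide)) ?_ (hQ 5 (by decide) (by decide) (by decide))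
    (hQ 4 (by decide) (by decide) (by decide)) (hQ 3 (by decide) (by decide) (by decide)) ?_
    (hQ 1 (by decide) (by decide) (by decide)) (hS 6 (by decide) 7 (by decide)) (hS0 3 (by decide))
    (hS0 4 (by decide)) (hS0 5 (by decide)) (hS0 6 (by decide)) (hS0 7 (by decide)) (hSS0 6 (by decide))
    (hSS0 7 (by decide))
  · have h6 : (sig k p n ^ 6) (c0 p n f d) = ((sig k p n ^ 6) (X 186 (f d)))⁻¹ * (X 186 (f d))⁻¹ *
        (sig k p n ^ 6) (X 186 (f d)) * X 186 (f d) := by
      rw [c0, map_mul, map_mul, map_mul, map_inv, map_inv, sig_sig, h8]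
    rw [h6]
    group
  · rw [c0]
    group

end

end Cfsg.Agent.H992.E8X
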