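import Cfsg.Agent.H992.E8X.Model

/-!
# The shifts by `y₁(d)`, `y₂(d)` (helper992)
-/

set_option autoImplicit false

namespace Cfsg.Agent.H992.E8X

open Cfsg Cfsg.Lie Cfsg.Agent.ChevalleyStructure Cfsg.Agent.ChevalleyStructure.Elts
open Matrix.SpecialLinearGroup
open scoped commutatorElement

universe u v

section
variable {k : Type u} [Field k] {p : ℕ} [Fact p.Prime] [CharP k p] [PerfectRing k p] {n : ℕ}
variable {E : Type v} [Field E] (f : E →+* k) (hE : ∀ a : E, a ^ (p ^ n) ^ 8 = a)

/-- commutation with the `σ`-conjugates of `R_d` -/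
theorem Rd_comm {s : ℕ} (h : AC k p n 235 s) {i j : ℕ} (hi : i < 4) (hj : j < 8) (d : E) (t : k) :
    Commute ((sig k p n ^ i) (Rd p n f d)) ((sig k p n ^ j) (X s t)) := by
  unfold Rd
  rw [map_mul, sig_sig]
  exact (h i (by omega) j hj _ _).mul_left (h (i + 4) (by omega) j hj _ _)

theorem Rd_comm_Rd {i j : ℕ} (hi : i < 4) (hj : j < 4) (d d' : E) :
    Commute ((sig k p n ^ i) (Rd p n f d)) ((sig k p n ^ j) (Rd p n f d')) := by
  conv => arg 2; rw [Rd, map_mul, sig_sig]
  exact (Rd_comm f ac_RR hi (by omega) d _).mul_right (Rd_comm f ac_RR hi (by omega) d _)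

theorem Rd_add (d d' : E) : Rd p n f (d + d') = Rd p n f d * Rd p n f d' := by
  unfold Rd
  rw [map_add, ← X_add, map_mul]
  have h := ac_RR (k := k) (p := p) (n := n) 4 (by decide) 0 (by decide) (f d) (f d')
  rw [sig_zero] at h
  calc X 235 (f d) * X 235 (f d') * ((sig k p n ^ 4) (X 235 (f d)) * (sig k p n ^ 4) (X 235 (f d')))
      = X 235 (f d) * (X 235 (f d') * (sig k p n ^ 4) (X 235 (f d))) * (sig k p n ^ 4) (X 235 (f d')) := by group
    _ = X 235 (f d) * ((sig k p n ^ 4) (X 235 (f d)) * X 235 (f d')) * (sig k p n ^ 4) (X 235 (f d')) := by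
        rw [h.eq]
    _ = _ := by group

/-- the elements `rr` commute with products of commuting elements -/
theorem rr_comm {g : ↥(chevE8.group k)} {d : E} (h : ∀ i < 4, Commute ((sig k p n ^ i) (Rd p n f d)) g) :
    Commute (rr p n f d) g := by
  unfold rr P4
  have h0 := h 0 (by decide)
  rw [sig_zero] at h0
  exact ((h0.mul_left (h 1 (by decide))).mul_left (h 2 (by decide))).mul_left (h 3 (by decide))

theorem rr_comm_X {s : ℕ} (h : AC k p n 235 s) {j : ℕ} (hj : j < 8) (d : E) (t : k) :
    Commute (rr p n f d) ((sig k p n ^ j) (X s t)) := rr_comm f fun _ hi => Rd_comm f h hi hj d t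

theorem rr_add (d d' : E) : rr p n f (d + d') = rr p n f d * rr p n f d' := by
  unfold rr P4
  rw [Rd_add, map_mul, map_mul, map_mul]
  have c : ∀ i < 4, ∀ j < 4, Commute ((sig k p n ^ i) (Rd p n f d)) ((sig k p n ^ j) (Rd p n f d')) :=
    fun i hi j hj => Rd_comm_Rd f hi hj d d'
  have c' : ∀ i < 4, Commute ((sig k p n ^ i) (Rd p n f d)) (Rd p n f d') := fun i hi => by
    have := c i hi 0 (by decide)
    rwa [sig_zero] at this
  refine rearr4 (c' 1 (by decide)) ((c' 2 (by decide)).mul_right (c 2 (by decide) 1 (by decide))) ?_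
  exact (((c' 3 (by decide)).mul_right (c 3 (by decide) 1 (by decide))).mul_right (c 3 (by decide) 2 (by decide)))

include hE in
theorem rr_fix (d : E) : sig k p n (rr p n f d) = rr p n f d := by
  have h8 : (sig k p n ^ 8) (X 235 (f d)) = X 235 (f d) :=
    sig_eight (by decide) (it8 235 (by decide)) (f_pow f hE d)
  have e0 : (sig k p n ^ 4) (Rd p n f d) = Rd p n f d := by
    unfold Rd
    rw [map_mul, sig_sig, h8]
    have h := ac_RR (k := k) (p := p) (n := n) 4 (by decide) 0 (by decide) (f d) (f d)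
    rw [sig_zero] at h
    exact h.eq
  have c : ∀ j < 4, Commute (Rd p n f d) ((sig k p n ^ j) (Rd p n f d)) := fun j hj => by
    have := Rd_comm_Rd (k := k) (p := p) (n := n) f (i := 0) (by decide) hj d d
    rwa [sig_zero] at this
  exact sig_P4' e0 (c 1 (by decide)) (c 2 (by decide)) (c 3 (by decide))

/-- the basic shift of `g_a = X 142 (f a)` by `y₂(d)` -/
theorem y2_g (a d : E) : (y2 p n f d)⁻¹ * X 142 (f a) * y2 p n f d = X 142 (f a) * X 235 (f (a * d)) := by
  have h0 : (X 232 (f d))⁻¹ * X 142 (f a) * X 232 (f d) = X 142 (f a) * X 235 (f (a * d)) := by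
    have h1 : ⁅(X 142 (f a))⁻¹, (X 232 (f d))⁻¹⁆ = X 235 (f (a * d)) := by
      rw [← X_neg, ← X_neg, X_br (r := 232) (s := 142) (q := 235) (by decide) (by decide) (by decide) br_TN]
      congr 1
      push_cast
      rw [map_mul]
      ring
    rw [← h1, comm_inv]
    group
  have hT : ∀ i < 8, i ≠ 0 → Commute (X 142 (f a)) ((sig k p n ^ i) (X 232 (f d))) := fun i hi hi0 => by
    have := c_TN (k := k) (p := p) (n := n) (i := 0) (j := i) (by decide) hi hi0.symm (f a) (f d)
    rwa [sig_zero] at this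
  have hR : ∀ i < 8, Commute (X 235 (f (a * d))) ((sig k p n ^ i) (X 232 (f d))) := fun i hi => by
    have := ac_RN (k := k) (p := p) (n := n) 0 (by decide) i hi (f (a * d)) (f d)
    rwa [sig_zero] at this
  exact conj8 h0 (hT 1 (by decide) (by decide)) (hT 2 (by decide) (by decide)) (hT 3 (by decide) (by decide))
    (hT 4 (by decide) (by decide)) (hT 5 (by decide) (by decide)) (hT 6 (by decide) (by decide))
    (hT 7 (by decide) (by decide)) (hR 1 (by decide)) (hR 2 (by decide)) (hR 3 (by decide)) (hR 4 (by decide))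
    (hR 5 (by decide)) (hR 6 (by decide)) (hR 7 (by decide))

theorem y2_z (t : k) (d : E) : Commute (X 215 t) (y2 p n f d) := by
  have h : ∀ i < 8, Commute (X 215 t) ((sig k p n ^ i) (X 232 (f d))) := fun i hi => by
    have := (ac_NP (k := k) (p := p) (n := n) i hi 0 (by decide) (f d) t).symm
    rwa [sig_zero] at this
  unfold y2 P8
  have h0 := h 0 (by decide)
  rw [sig_zero] at h0
  exact ((((((h0.mul_right (h 1 (by decide))).mul_right (h 2 (by decide))).mul_right (h 3 (by decide))).mul_right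
    (h 4 (by decide))).mul_right (h 5 (by decide))).mul_right (h 6 (by decide))).mul_right (h 7 (by decide))

include hE in
/-- **the shift by `y₂`** -/
theorem y2_shift (a d : E) (t : k) :
    (y2 p n f d)⁻¹ * P4 k p n (X 142 (f a) * (sig k p n ^ 4) (X 142 (f a)) * X 215 t) * y2 p n f d =
      P4 k p n (X 142 (f a) * (sig k p n ^ 4) (X 142 (f a)) * X 215 t) * rr p n f (a * d) := by
  have hfix := y2_fix (k := k) (p := p) (n := n) f hE d
  have h1 := y2_g (k := k) (p := p) (n := n) f a d
  have h2 : (y2 p n f d)⁻¹ * (sig k p n ^ 4) (X 142 (f a)) * y2 p n f d =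
      (sig k p n ^ 4) (X 142 (f a)) * (sig k p n ^ 4) (X 235 (f (a * d))) := by
    have h3 := congrArg (⇑(sig k p n ^ 4)) h1
    rw [map_mul, map_mul, map_mul, map_inv, pow_sig_fix hfix] at h3
    exact h3
  have h3 : (y2 p n f d)⁻¹ * X 215 t * y2 p n f d = X 215 t := by
    rw [mul_assoc, (y2_z (p := p) (n := n) f t d).eq, inv_mul_cancel_left]
  have cRT : ∀ i < 8, ∀ j < 8, Commute ((sig k p n ^ i) (X 235 (f (a * d)))) ((sig k p n ^ j) (X 142 (f a))) :=
    fun i hi j hj => ac_RT i hi j hj _ _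
  have c1 : Commute (X 235 (f (a * d))) ((sig k p n ^ 4) (X 142 (f a))) := by
    have := cRT 0 (by decide) 4 (by decide)
    rwa [sig_zero] at this
  have c2 : Commute (X 235 (f (a * d))) (X 215 t) := by
    have := ac_RP (k := k) (p := p) (n := n) 0 (by decide) 0 (by decide) (f (a * d)) t
    rwa [sig_zero, sig_zero] at this
  have c3 : Commute ((sig k p n ^ 4) (X 235 (f (a * d)))) (X 215 t) := by
    have := ac_RP (k := k) (p := p) (n := n) 4 (by decide) 0 (by decide) (f (a * d)) t
    rwa [sig_zero] at this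
  refine shiftP4 hfix ?_ ?_
  · unfold Rd
    calc (y2 p n f d)⁻¹ * (X 142 (f a) * (sig k p n ^ 4) (X 142 (f a)) * X 215 t) * y2 p n f d
        = ((y2 p n f d)⁻¹ * X 142 (f a) * y2 p n f d) * ((y2 p n f d)⁻¹ * (sig k p n ^ 4) (X 142 (f a)) * y2 p n f d) *
            ((y2 p n f d)⁻¹ * X 215 t * y2 p n f d) := by group
      _ = (X 142 (f a) * X 235 (f (a * d))) * ((sig k p n ^ 4) (X 142 (f a)) * (sig k p n ^ 4) (X 235 (f (a * d)))) *
            X 215 t := by rw [h1, h2, h3]
      _ = X 142 (f a) * (X 235 (f (a * d)) * (sig k p n ^ 4) (X 142 (f a))) *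
            ((sig k p n ^ 4) (X 235 (f (a * d))) * X 215 t) := by group
      _ = X 142 (f a) * (sig k p n ^ 4) (X 142 (f a)) * (X 235 (f (a * d)) * X 215 t) *
            (sig k p n ^ 4) (X 235 (f (a * d))) := by rw [c1.eq, c3.eq]; group
      _ = _ := by rw [c2.eq]; group
  · intro i hi j hj
    rw [map_mul, map_mul, sig_sig]
    exact ((Rd_comm f ac_RT hi (by omega) _ _).mul_right (Rd_comm f ac_RT hi (by omega) _ _)).mul_right
      (Rd_comm f ac_RP hi (by omega) _ _)

include hE in
theorem y2_shift_z (d : E) (t : k) :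
    (y2 p n f d)⁻¹ * P4 k p n (X 215 t) * y2 p n f d = P4 k p n (X 215 t) := by
  refine fixP4 (y2_fix f hE d) ?_
  rw [mul_assoc, (y2_z (p := p) (n := n) f t d).eq, inv_mul_cancel_left]

include hE in
/-- **the shift by `y₁`** -/
theorem y1_shift (b d : E) (hb : (sig k p n ^ 4) (X 215 (f b)) = X 215 (f b)) :
    (y1 p n f d)⁻¹ * P4 k p n (X 215 (f b)) * y1 p n f d = P4 k p n (X 215 (f b)) * rr p n f (b * d) := by
  have hfix := y1_fix (k := k) (p := p) (n := n) f hE d
  obtain ⟨v, hv⟩ := c0_eq (k := k) (p := p) (n := n) f d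
  have h0 : (X 186 (f d))⁻¹ * X 215 (f b) * X 186 (f d) = X 215 (f b) * X 235 (f (b * d)) := by
    have h1 : ⁅(X 215 (f b))⁻¹, (X 186 (f d))⁻¹⁆ = X 235 (f (b * d)) := by
      rw [← X_neg, ← X_neg, X_br (r := 186) (s := 215) (q := 235) (by decide) (by decide) (by decide) br_PQ]
      congr 1
      push_cast
      rw [map_mul]
      ring
    rw [← h1, comm_inv]
    group
  have h4 : ((sig k p n ^ 4) (X 186 (f d)))⁻¹ * X 215 (f b) * (sig k p n ^ 4) (X 186 (f d)) =
      X 215 (f b) * (sig k p n ^ 4) (X 235 (f (b * d))) := by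
    have h3 := congrArg (⇑(sig k p n ^ 4)) h0
    rw [map_mul, map_mul, map_mul, map_inv, hb] at h3
    exact h3
  have hz : ∀ j < 8, j ≠ 0 → j ≠ 4 → Commute (X 215 (f b)) ((sig k p n ^ j) (X 186 (f d))) :=
    fun j hj j0 j4 => c_PQ hj j0 j4 _ _
  have hzc : ∀ j < 8, Commute (X 215 (f b)) ((sig k p n ^ j) (c0 p n f d)) := fun j hj => by
    rw [hv]
    have := (ac_SP (k := k) (p := p) (n := n) j hj 0 (by decide) v (f b)).symm
    rwa [sig_zero] at this
  have hR : ∀ i < 8, ∀ j < 8, Commute ((sig k p n ^ i) (X 235 (f (b * d)))) ((sig k p n ^ j) (X 186 (f d))) :=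
    fun i hi j hj => ac_RQ i hi j hj _ _
  have hRc : ∀ i < 8, ∀ j < 8, Commute ((sig k p n ^ i) (X 235 (f (b * d)))) ((sig k p n ^ j) (c0 p n f d)) :=
    fun i hi j hj => by rw [hv]; exact ac_RS i hi j hj _ _
  have hR0 : ∀ j < 8, Commute (X 235 (f (b * d))) ((sig k p n ^ j) (X 186 (f d))) := fun j hj => by
    have := hR 0 (by decide) j hj
    rwa [sig_zero] at this
  have hRc0 : ∀ j < 8, Commute (X 235 (f (b * d))) ((sig k p n ^ j) (c0 p n f d)) := fun j hj => by
    have := hRc 0 (by decide) j hj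
    rwa [sig_zero] at this
  have rr' : Commute (X 235 (f (b * d))) ((sig k p n ^ 4) (X 235 (f (b * d)))) := by
    have := ac_RR (k := k) (p := p) (n := n) 0 (by decide) 4 (by decide) (f (b * d)) (f (b * d))
    rwa [sig_zero] at this
  refine shiftP4 hfix ?_ ?_
  · exact conjz h0 h4 (hz 1 (by decide) (by decide) (by decide)) (hz 2 (by decide) (by decide) (by decide))
      (hz 3 (by decide) (by decide) (by decide)) (hz 5 (by decide) (by decide) (by decide))
      (hz 6 (by decide) (by decide) (by decide)) (hz 7 (by decide) (by decide) (by decide))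
      (hzc 6 (by decide)) (hzc 7 (by decide)) (hR0 1 (by decide)) (hR0 2 (by decide)) (hR0 3 (by decide))
      (hR0 4 (by decide)) (hR0 5 (by decide)) (hR0 6 (by decide)) (hR0 7 (by decide)) (hRc0 6 (by decide))
      (hRc0 7 (by decide)) (hR 4 (by decide) 5 (by decide)) (hR 4 (by decide) 6 (by decide))
      (hR 4 (by decide) 7 (by decide)) (hRc 4 (by decide) 6 (by decide)) (hRc 4 (by decide) 7 (by decide)) rr'
  · intro i hi j hj
    exact Rd_comm f ac_RP hi (by omega) _ _

/-- `rr` commutes with `y₂` -/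
theorem rr_y2 (d d' : E) : Commute (rr p n f d) (y2 p n f d') := by
  have h : ∀ i < 8, Commute (rr p n f d) ((sig k p n ^ i) (X 232 (f d'))) := fun i hi => rr_comm_X f ac_RN hi d _
  unfold y2 P8
  have h0 := h 0 (by decide)
  rw [sig_zero] at h0
  exact ((((((h0.mul_right (h 1 (by decide))).mul_right (h 2 (by decide))).mul_right (h 3 (by decide))).mul_right
    (h 4 (by decide))).mul_right (h 5 (by decide))).mul_right (h 6 (by decide))).mul_right (h 7 (by decide))

/-- `rr` commutes with `y₁` -/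
theorem rr_y1 (d d' : E) : Commute (rr p n f d) (y1 p n f d') := by
  obtain ⟨v, hv⟩ := c0_eq (k := k) (p := p) (n := n) f d'
  have h : ∀ i < 8, Commute (rr p n f d) ((sig k p n ^ i) (X 186 (f d'))) := fun i hi => rr_comm_X f ac_RQ hi d _
  have hc : ∀ i < 8, Commute (rr p n f d) ((sig k p n ^ i) (c0 p n f d')) := fun i hi => by
    rw [hv]; exact rr_comm_X f ac_RS hi d _
  unfold y1 P8
  have h0 := h 0 (by decide)
  rw [sig_zero] at h0
  exact ((((((((h0.mul_right (h 1 (by decide))).mul_right (h 2 (by decide))).mul_right (h 3 (by decide))).mul_right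
    (h 4 (by decide))).mul_right (h 5 (by decide))).mul_right (h 6 (by decide))).mul_right (h 7 (by decide))).mul_right
      (hc 6 (by decide))).mul_right (hc 7 (by decide))

/-- `rr` commutes with `ι` of upper triangular elements -/
theorem rr_w (d : E) (t t' u : k) :
    Commute (rr p n f d) (P4 k p n (X 142 t * (sig k p n ^ 4) (X 142 t') * X 215 u)) := by
  have h : ∀ i < 4, Commute (rr p n f d) ((sig k p n ^ i) (X 142 t * (sig k p n ^ 4) (X 142 t') * X 215 u)) := by
    intro i hi
    rw [map_mul, map_mul, sig_sig]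
    exact ((rr_comm_X f ac_RT (by omega) d _).mul_right (rr_comm_X f ac_RT (by omega) d _)).mul_right
      (rr_comm_X f ac_RP (by omega) d _)
  unfold P4
  have h0 := h 0 (by decide)
  rw [sig_zero] at h0
  exact ((h0.mul_right (h 1 (by decide))).mul_right (h 2 (by decide))).mul_right (h 3 (by decide))

end

end Cfsg.Agent.H992.E8X
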