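import Cfsg.Agent.ChevalleyStructure.Irreducible
import Cfsg.Agent.ChevalleyStructure.ConjSimpleAll
import Cfsg.Agent.ChevalleyStructure.NPerm
import Cfsg.Agent.S1025

/-!
# Root elements of `E₈(k)` and the action of words in the `n_i` with explicit signs (helper992)
-/

set_option autoImplicit false

namespace Cfsg.Agent.H992.E8X

open Cfsg Cfsg.Lie Cfsg.Agent.ChevalleyStructure Cfsg.Agent.ChevalleyStructure.Elts
open Cfsg.Agent.ChevalleyStructure.NSimple (eta)
open scoped commutatorElement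

universe u

theorem hE8 : InList chevE8 := by simp

theorem nroots_E8 : chevE8.nroots = 240 := rfl
theorem rank_E8 : chevE8.rank = 8 := rfl

section
variable {k : Type u} [Field k]

theorem word_nil {D : ChevalleyDatum} (hD : InList D) {r s : ℕ} (h : D.commTerms r s = []) (t u : k) :
    wordG hD (D.commWord k r s t u) = 1 := by
  show (List.map _ (List.map _ (D.commTerms r s))).prod = 1
  rw [h]
  rfl

theorem word_one {D : ChevalleyDatum} (hD : InList D) {r s q : ℕ} {c : ℤ} (h : D.commTerms r s = [(q, c, 1, 1)])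
    (t u : k) : wordG hD (D.commWord k r s t u) = xG hD q (-(c : k) * (u * t)) := by
  show (List.map _ (List.map _ (D.commTerms r s))).prod = _
  rw [h]
  show xG hD q ((c : k) * (-t) ^ 1 * u ^ 1) * 1 = _
  rw [mul_one, pow_one, pow_one]
  congr 1
  ring

/-- root elements in the Chevalley group -/
def X (r : ℕ) (t : k) : ↥(chevE8.group k) := ⟨xG hE8 r t, xG_mem_group hE8 r t⟩

theorem coe_X (r : ℕ) (t : k) : (X r t : GL chevE8.Idx k) = xG hE8 r t := rfl

theorem X_add (r : ℕ) (t u : k) : X r t * X r u = X r (t + u) := Subtype.ext (xG_add hE8 r t u)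

theorem X_zero (r : ℕ) : X r (0 : k) = 1 := by
  have := X_add (k := k) r 0 0
  rw [add_zero] at this
  exact mul_eq_left.1 this

theorem X_neg (r : ℕ) (t : k) : X r (-t) = (X r t)⁻¹ := by
  rw [eq_inv_iff_mul_eq_one, X_add, neg_add_cancel, X_zero]

theorem X_eq_one {r : ℕ} (hr : r < 240) {t : k} (h : X r t = 1) : t = 0 :=
  (xG_eq_one_iff hE8 hr t).1 (congrArg Subtype.val h)

theorem X_comm_word {r s : ℕ} (hr : r < 240) (hs : s < 240) (h1 : s ≠ r) (h2 : s ≠ chevE8.neg r) (t u : k) :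
    xG hE8 s u * xG hE8 r t = xG hE8 r t * xG hE8 s u * wordG hE8 (chevE8.commWord k r s t u) :=
  Units.ext (by
    rw [Units.val_mul, Units.val_mul, Units.val_mul, coe_wordG]
    exact Cfsg.Agent.S1025.result chevE8 hE8 r s hr hs h1 h2 t u)

/-- the table condition for commuting root elements -/
def Cm (r s : ℕ) : Bool := (s == r) || (s != chevE8.neg r && chevE8.commTerms r s == [])

theorem X_commute {r s : ℕ} (hr : r < 240) (hs : s < 240) (h : Cm r s = true) (t u : k) :
    Commute (X s u) (X r t) := by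
  apply Subtype.ext
  show xG hE8 s u * xG hE8 r t = xG hE8 r t * xG hE8 s u
  by_cases h1 : s = r
  · subst h1
    rw [xG_add, xG_add, add_comm]
  · have h' : s ≠ chevE8.neg r ∧ chevE8.commTerms r s = [] := by simpa [Cm, h1] using h
    rw [X_comm_word hr hs h1 h'.1, word_nil hE8 h'.2, mul_one]

/-- the table condition for a commutator -/
def Br (r s q : ℕ) (c : ℤ) : Bool :=
  s != r && s != chevE8.neg r && chevE8.commTerms r s == [(q, c, 1, 1)] && Cm q s && Cm q r

theorem br_group {G : Type*} [Group G] {g h W : G} (h1 : g * h = h * g * W) (h2 : g * W = W * g) (h3 : h * W = W * h) :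
    ⁅g, h⁆ = W := by
  rw [commutatorElement_def, h1, mul_assoc (h * g) W, mul_assoc h g, ← mul_assoc g W, h2]
  rw [show h * (W * g * g⁻¹) * h⁻¹ = h * W * h⁻¹ by group, h3]
  group

theorem X_br {r s q : ℕ} {c : ℤ} (hr : r < 240) (hs : s < 240) (hq : q < 240) (h : Br r s q c = true) (t u : k) :
    ⁅X s u, X r t⁆ = X q (-(c : k) * (u * t)) := by
  have h' : ((((s ≠ r ∧ s ≠ chevE8.neg r) ∧ chevE8.commTerms r s = [(q, c, 1, 1)]) ∧ Cm q s = true) ∧
      Cm q r = true) := by simpa [Br] using h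
  obtain ⟨⟨⟨⟨h1, h2⟩, h3⟩, h4⟩, h5⟩ := h'
  apply br_group
  · apply Subtype.ext
    show xG hE8 s u * xG hE8 r t = xG hE8 r t * xG hE8 s u * xG hE8 q (-(c : k) * (u * t))
    rw [X_comm_word hr hs h1 h2, word_one hE8 h3]
  · exact (X_commute hq hs h4 _ _)
  · exact (X_commute hq hr h5 _ _)

/-- the action of a word on the roots, with the sign -/
def act : List ℕ → ℕ → ℕ × ℤ
  | [], r => (r, 1)
  | i :: l, r => (chevE8.reflectRoot i (act l r).1, eta chevE8 i (act l r).1 * (act l r).2)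

/-- the product of fundamental reflections -/
noncomputable def nW (k : Type u) [Field k] (l : List ℕ) : ↥(chevE8.group k) :=
  (l.map fun i => (⟨nG hE8 (chevE8.simple i) 1, nG_mem_group hE8 _ _⟩ : ↥(chevE8.group k))).prod

theorem nG_X {i s : ℕ} (hi : i < 8) (hs : s < 240) (t : k) :
    (⟨nG hE8 (chevE8.simple i) 1, nG_mem_group hE8 _ _⟩ : ↥(chevE8.group k)) * X s t *
      (⟨nG hE8 (chevE8.simple i) 1, nG_mem_group hE8 _ _⟩ : ↥(chevE8.group k))⁻¹ =
        X (chevE8.reflectRoot i s) ((eta chevE8 i s : k) * t) := by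
  apply Subtype.ext
  show nG hE8 (chevE8.simple i) 1 * xG hE8 s t * (nG hE8 (chevE8.simple i) 1)⁻¹ =
    xG hE8 (chevE8.reflectRoot i s) ((eta chevE8 i s : k) * t)
  rw [mul_inv_eq_iff_eq_mul]
  apply Units.ext
  rw [Units.val_mul, Units.val_mul, coe_nG, coe_xG, coe_xG]
  exact ConjSimpleAll.nMat_mul_x hE8 hi hs t

theorem refl_lt {i s : ℕ} (hi : i < 8) (hs : s < 240) : chevE8.reflectRoot i s < 240 :=
  NPerm.reflectRoot_lt hE8 hi hs

theorem nW_X (l : List ℕ) (hl : ∀ i ∈ l, i < 8) {s : ℕ} (hs : s < 240) (t : k) :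
    (act l s).1 < 240 ∧ nW k l * X s t * (nW k l)⁻¹ = X (act l s).1 (((act l s).2 : k) * t) := by
  induction l with
  | nil =>
    refine ⟨hs, ?_⟩
    show (1 : ↥(chevE8.group k)) * X s t * 1⁻¹ = X s (((1 : ℤ) : k) * t)
    rw [Int.cast_one, one_mul, one_mul, inv_one, mul_one]
  | cons i l ih =>
    obtain ⟨h1, h2⟩ := ih (fun j hj => hl j (List.mem_cons_of_mem _ hj))
    have hi := hl i List.mem_cons_self
    refine ⟨refl_lt hi h1, ?_⟩
    show _ = X (chevE8.reflectRoot i (act l s).1) (((eta chevE8 i (act l s).1 * (act l s).2 : ℤ) : k) * t)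
    have h3 := nG_X (k := k) hi h1 (((act l s).2 : k) * t)
    rw [Int.cast_mul, mul_assoc (eta chevE8 i (act l s).1 : k), ← h3, ← h2]
    show (_ * nW k l) * X s t * (_ * nW k l)⁻¹ = _
    group

end

end Cfsg.Agent.H992.E8X
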