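import Cfsg.Agent.H992.E8X.Hom

/-!
# The shifting elements `y₁(d)`, `y₂(d)` and `r(d)` (helper992)
-/

set_option autoImplicit false

namespace Cfsg.Agent.H992.E8X

open Cfsg Cfsg.Lie Cfsg.Agent.ChevalleyStructure Cfsg.Agent.ChevalleyStructure.Elts
open scoped commutatorElement

universe u v

section Gen
variable {G : Type*} [Group G]

theorem conj8 {g R h0 h1 h2 h3 h4 h5 h6 h7 : G} (h : h0⁻¹ * g * h0 = g * R)
    (g1 : Commute g h1) (g2 : Commute g h2) (g3 : Commute g h3) (g4 : Commute g h4) (g5 : Commute g h5)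
    (g6 : Commute g h6) (g7 : Commute g h7)
    (r1 : Commute R h1) (r2 : Commute R h2) (r3 : Commute R h3) (r4 : Commute R h4) (r5 : Commute R h5)
    (r6 : Commute R h6) (r7 : Commute R h7) :
    (h0 * h1 * h2 * h3 * h4 * h5 * h6 * h7)⁻¹ * g * (h0 * h1 * h2 * h3 * h4 * h5 * h6 * h7) = g * R := by
  have hB : Commute (g * R) (h1 * h2 * h3 * h4 * h5 * h6 * h7) :=
    ((((((((g1.mul_left r1).mul_right (g2.mul_left r2)).mul_right (g3.mul_left r3)).mul_right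
      (g4.mul_left r4)).mul_right (g5.mul_left r5)).mul_right (g6.mul_left r6)).mul_right (g7.mul_left r7)))
  calc (h0 * h1 * h2 * h3 * h4 * h5 * h6 * h7)⁻¹ * g * (h0 * h1 * h2 * h3 * h4 * h5 * h6 * h7)
      = (h1 * h2 * h3 * h4 * h5 * h6 * h7)⁻¹ * (h0⁻¹ * g * h0) * (h1 * h2 * h3 * h4 * h5 * h6 * h7) := by group
    _ = (h1 * h2 * h3 * h4 * h5 * h6 * h7)⁻¹ * ((g * R) * (h1 * h2 * h3 * h4 * h5 * h6 * h7)) := by
        rw [h, mul_assoc]
    _ = g * R := by rw [hB.eq, inv_mul_cancel_left]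

/-- product of four factors with central corrections -/
theorem shift4 {w0 w1 w2 w3 z0 z1 z2 z3 y : G} (h0 : y⁻¹ * w0 * y = w0 * z0) (h1 : y⁻¹ * w1 * y = w1 * z1)
    (h2 : y⁻¹ * w2 * y = w2 * z2) (h3 : y⁻¹ * w3 * y = w3 * z3)
    (c1 : Commute z0 w1) (c2 : Commute (z0 * z1) w2) (c3 : Commute (z0 * z1 * z2) w3) :
    y⁻¹ * (w0 * w1 * w2 * w3) * y = (w0 * w1 * w2 * w3) * (z0 * z1 * z2 * z3) := by
  calc y⁻¹ * (w0 * w1 * w2 * w3) * y = (y⁻¹ * w0 * y) * (y⁻¹ * w1 * y) * (y⁻¹ * w2 * y) * (y⁻¹ * w3 * y) := by group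
    _ = (w0 * z0) * (w1 * z1) * (w2 * z2) * (w3 * z3) := by rw [h0, h1, h2, h3]
    _ = w0 * (z0 * w1) * z1 * (w2 * z2) * (w3 * z3) := by group
    _ = w0 * (w1 * z0) * z1 * (w2 * z2) * (w3 * z3) := by rw [c1.eq]
    _ = w0 * w1 * ((z0 * z1) * w2) * z2 * (w3 * z3) := by group
    _ = w0 * w1 * (w2 * (z0 * z1)) * z2 * (w3 * z3) := by rw [c2.eq]
    _ = w0 * w1 * w2 * ((z0 * z1 * z2) * w3) * z3 := by group
    _ = w0 * w1 * w2 * (w3 * (z0 * z1 * z2)) * z3 := by rw [c3.eq]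
    _ = _ := by group

/-- `σ(y₁) = y₁` -/
theorem rotc {x0 x1 x2 x3 x4 x5 x6 x7 c0 c6 c7 : G} (h7 : Commute x7 x0) (h6 : x6 * x0 = x0 * x6 * c6)
    (h5 : Commute x5 x0) (h4 : Commute x4 x0) (h3 : Commute x3 x0) (h2 : x2 * x0 * c0 = x0 * x2)
    (h1 : Commute x1 x0) (a7 : Commute c6 x7) (b3 : Commute c0 x3) (b4 : Commute c0 x4) (b5 : Commute c0 x5)
    (b6 : Commute c0 x6) (b7 : Commute c0 x7) (d6 : Commute c0 c6) (d7 : Commute c0 c7) :
    x1 * x2 * x3 * x4 * x5 * x6 * x7 * x0 * c7 * c0 = x0 * x1 * x2 * x3 * x4 * x5 * x6 * x7 * c6 * c7 := by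
  have B : Commute c0 (x3 * x4 * x5 * x6 * x7 * c6 * c7) :=
    ((((((b3.mul_right b4).mul_right b5).mul_right b6).mul_right b7).mul_right d6).mul_right d7)
  have A : Commute (x3 * x4 * x5) x0 := (h3.mul_left h4).mul_left h5
  calc x1 * x2 * x3 * x4 * x5 * x6 * x7 * x0 * c7 * c0
      = x1 * x2 * x3 * x4 * x5 * x6 * (x7 * x0) * c7 * c0 := by group
    _ = x1 * x2 * x3 * x4 * x5 * (x6 * x0) * x7 * c7 * c0 := by rw [h7.eq]; group
    _ = x1 * x2 * ((x3 * x4 * x5) * x0) * x6 * (c6 * x7) * c7 * c0 := by rw [h6]; group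
    _ = x1 * x2 * x0 * ((x3 * x4 * x5 * x6 * x7 * c6 * c7) * c0) := by rw [A.eq, a7.eq]; group
    _ = x1 * (x2 * x0 * c0) * (x3 * x4 * x5 * x6 * x7 * c6 * c7) := by rw [← B.eq]; group
    _ = (x1 * x0) * x2 * (x3 * x4 * x5 * x6 * x7 * c6 * c7) := by rw [h2]; group
    _ = _ := by rw [h1.eq]; group

/-- conjugation of `z` by `y₁` -/
theorem conjz {x0 x1 x2 x3 x4 x5 x6 x7 c6 c7 z R R' : G} (h0 : x0⁻¹ * z * x0 = z * R)
    (h4 : x4⁻¹ * z * x4 = z * R') (z1 : Commute z x1) (z2 : Commute z x2) (z3 : Commute z x3)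
    (z5 : Commute z x5) (z6 : Commute z x6) (z7 : Commute z x7) (z8 : Commute z c6) (z9 : Commute z c7)
    (r1 : Commute R x1) (r2 : Commute R x2) (r3 : Commute R x3) (r4 : Commute R x4) (r5 : Commute R x5)
    (r6 : Commute R x6) (r7 : Commute R x7) (r8 : Commute R c6) (r9 : Commute R c7)
    (s5 : Commute R' x5) (s6 : Commute R' x6) (s7 : Commute R' x7) (s8 : Commute R' c6) (s9 : Commute R' c7)
    (rr : Commute R R') :
    (x0 * x1 * x2 * x3 * x4 * x5 * x6 * x7 * c6 * c7)⁻¹ * z * (x0 * x1 * x2 * x3 * x4 * x5 * x6 * x7 * c6 * c7) =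
      z * (R * R') := by
  have A : Commute (z * R) (x1 * x2 * x3) := ((z1.mul_left r1).mul_right (z2.mul_left r2)).mul_right (z3.mul_left r3)
  have B : Commute (z * (R * R')) (x5 * x6 * x7 * c6 * c7) :=
    ((((z5.mul_left (r5.mul_left s5)).mul_right (z6.mul_left (r6.mul_left s6))).mul_right
      (z7.mul_left (r7.mul_left s7))).mul_right (z8.mul_left (r8.mul_left s8))).mul_right
        (z9.mul_left (r9.mul_left s9))
  calc (x0 * x1 * x2 * x3 * x4 * x5 * x6 * x7 * c6 * c7)⁻¹ * z * (x0 * x1 * x2 * x3 * x4 * x5 * x6 * x7 * c6 * c7)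
      = (x5 * x6 * x7 * c6 * c7)⁻¹ * x4⁻¹ * (x1 * x2 * x3)⁻¹ * (x0⁻¹ * z * x0) * (x1 * x2 * x3) * x4 *
          (x5 * x6 * x7 * c6 * c7) := by group
    _ = (x5 * x6 * x7 * c6 * c7)⁻¹ * x4⁻¹ * (x1 * x2 * x3)⁻¹ * ((z * R) * (x1 * x2 * x3)) * x4 *
          (x5 * x6 * x7 * c6 * c7) := by rw [h0]; group
    _ = (x5 * x6 * x7 * c6 * c7)⁻¹ * x4⁻¹ * z * (R * x4) * (x5 * x6 * x7 * c6 * c7) := by rw [A.eq]; group
    _ = (x5 * x6 * x7 * c6 * c7)⁻¹ * (x4⁻¹ * z * x4) * R * (x5 * x6 * x7 * c6 * c7) := by rw [r4.eq]; group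
    _ = (x5 * x6 * x7 * c6 * c7)⁻¹ * (z * (R' * R)) * (x5 * x6 * x7 * c6 * c7) := by rw [h4]; group
    _ = (x5 * x6 * x7 * c6 * c7)⁻¹ * ((z * (R * R')) * (x5 * x6 * x7 * c6 * c7)) := by rw [rr.eq]; group
    _ = _ := by rw [B.eq, inv_mul_cancel_left]

end Gen

section
variable {k : Type u} [Field k] {p : ℕ} [Fact p.Prime] [CharP k p] [PerfectRing k p] {n : ℕ}

variable (k p n) in
/-- all conjugates under `σ^i`, `i < 8`, commute -/
def AC (r s : ℕ) : Prop := ∀ i < 8, ∀ j < 8, ∀ t u : k,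
  Commute ((sig k p n ^ i) (X r t)) ((sig k p n ^ j) (X s u))

theorem ac_of {r s : ℕ} (hr : r < 240) (hs : s < 240) {oA oB : Fin 8 → ℕ} (hA : ∀ i : Fin 8, (it r i).1 = oA i)
    (hB : ∀ i : Fin 8, (it s i).1 = oB i) (h : ∀ i j : Fin 8, Cm (oA i) (oB j) = true) : AC k p n r s := by
  intro i hi j hj t u
  refine (sig_commute hr hs (i := i) (j := j) ?_ t u).symm
  have h1 := hA ⟨i, hi⟩
  have h2 := hB ⟨j, hj⟩
  simp only at h1 h2
  rw [h1, h2]
  exact h _ _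

theorem ac_RT : AC k p n 235 142 := ac_of (by decide) (by decide) it_R it_T cm_RT
theorem ac_RN : AC k p n 235 232 := ac_of (by decide) (by decide) it_R it_N cm_RN
theorem ac_RP : AC k p n 235 215 := ac_of (by decide) (by decide) it_R it_P cm_RP
theorem ac_RQ : AC k p n 235 186 := ac_of (by decide) (by decide) it_R it_Q cm_RQ
theorem ac_RR : AC k p n 235 235 := ac_of (by decide) (by decide) it_R it_R cm_RR
theorem ac_RS : AC k p n 235 219 := ac_of (by decide) (by decide) it_R it_S cm_RS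
theorem ac_NP : AC k p n 232 215 := ac_of (by decide) (by decide) it_N it_P cm_NP
theorem ac_NN : AC k p n 232 232 := ac_of (by decide) (by decide) it_N it_N cm_NN
theorem ac_SS : AC k p n 219 219 := ac_of (by decide) (by decide) it_S it_S cm_SS
theorem ac_SP : AC k p n 219 215 := ac_of (by decide) (by decide) it_S it_P cm_SP
theorem ac_SQ : AC k p n 219 186 := ac_of (by decide) (by decide) it_S it_Q cm_SQ

theorem c_TN {i j : ℕ} (hi : i < 8) (hj : j < 8) (hij : i ≠ j) (t u : k) :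
    Commute ((sig k p n ^ i) (X 142 t)) ((sig k p n ^ j) (X 232 u)) := by
  refine (sig_commute (by decide) (by decide) (i := i) (j := j) ?_ t u).symm
  have h1 := it_T ⟨i, hi⟩
  have h2 := it_N ⟨j, hj⟩
  simp only at h1 h2
  rw [h1, h2]
  exact cm_TN _ _ fun h => hij (congrArg Fin.val h)

theorem c_PQ {j : ℕ} (hj : j < 8) (h0 : j ≠ 0) (h4 : j ≠ 4) (t u : k) :
    Commute (X 215 t) ((sig k p n ^ j) (X 186 u)) := by
  have h := (sig_commute (k := k) (p := p) (n := n) (r := 186) (s := 215) (by decide) (by decide) (i := j) (j := 0)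
    (by
      have h1 := it_Q ⟨j, hj⟩
      have h2 := it_P 0
      simp only at h1 h2
      rw [h1]
      exact cm_QP _ (fun h => h0 (congrArg Fin.val h)) (fun h => h4 (congrArg Fin.val h))) u t)
  rw [pow_zero, MulAut.one_apply] at h
  exact h

theorem c_QQ {i j : ℕ} (hi : i < 8) (hj : j < 8) (h1 : (j + 2) % 8 ≠ i) (h2 : (i + 2) % 8 ≠ j) (t u : k) :
    Commute ((sig k p n ^ i) (X 186 t)) ((sig k p n ^ j) (X 186 u)) := by
  refine (sig_commute (by decide) (by decide) (i := i) (j := j) ?_ t u).symm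
  have e1 := it_Q ⟨i, hi⟩
  have e2 := it_Q ⟨j, hj⟩
  simp only at e1 e2
  rw [e1, e2]
  refine cm_QQ _ _ (fun h => h1 ?_) (fun h => h2 ?_)
  · have := congrArg Fin.val h
    rw [Fin.val_add] at this
    exact this.symm
  · have := congrArg Fin.val h
    rw [Fin.val_add] at this
    exact this.symm

end

end Cfsg.Agent.H992.E8X
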