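import Cfsg.Agent.H992.E8X.Root
import Cfsg.Agent.ChevalleyStructure.StringMem
import Cfsg.Agent.ChevalleyStructure.DiagConj

/-!
# Tables for `SU₃(u⁴) < E₈(u)` (helper992)

`A₇` coordinates `0..7`; `wl` is the word of an `8`-cycle `w` of `W(A₇)` with `n⁸ = 1`.
Base roots: `τ = 142` (triple `{0,1,3}`), `w⁴ τ = 201`, `π = 215` (pair `{2,6}`), `ν = 232` (pair `{0,1}`),
`τ' = 186` (triple `{2,3,6}`), `ρ = 235` (level three), `S = 219 = τ' + w² τ'`.
-/

set_option autoImplicit false

namespace Cfsg.Agent.H992.E8X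

open Cfsg Cfsg.Lie

/-- the word -/
def wl : List ℕ := [0, 2, 3, 4, 5, 6, 7, 1, 1]

theorem wl_lt : ∀ i ∈ wl, i < 8 := by decide

/-- iterates of the action of the word -/
def it (r : ℕ) : ℕ → ℕ × ℤ
  | 0 => (r, 1)
  | i + 1 => ((act wl (it r i).1).1, (act wl (it r i).1).2 * (it r i).2)

/-- the orbits -/
def oT : Fin 8 → ℕ := ![142, 170, 185, 195, 201, 159, 183, 151]
def oN : Fin 8 → ℕ := ![232, 224, 218, 213, 209, 206, 204, 226]
def oP : Fin 8 → ℕ := ![215, 210, 229, 221, 215, 210, 229, 221]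
def oQ : Fin 8 → ℕ := ![186, 196, 156, 181, 193, 155, 143, 171]
def oR : Fin 8 → ℕ := ![235, 236, 237, 238, 239, 225, 233, 234]
def oS : Fin 8 → ℕ := ![219, 231, 223, 217, 212, 208, 205, 227]

theorem it_T : ∀ i : Fin 8, (it 142 i).1 = oT i := by decide +kernel
theorem it_N : ∀ i : Fin 8, (it 232 i).1 = oN i := by decide +kernel
theorem it_P : ∀ i : Fin 8, (it 215 i).1 = oP i := by decide +kernel
theorem it_Q : ∀ i : Fin 8, (it 186 i).1 = oQ i := by decide +kernel
theorem it_R : ∀ i : Fin 8, (it 235 i).1 = oR i := by decide +kernel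
theorem it_S : ∀ i : Fin 8, (it 219 i).1 = oS i := by decide +kernel

theorem it8_142 : it 142 8 = (142, 1) := by decide +kernel
theorem it8_232 : it 232 8 = (232, 1) := by decide +kernel
theorem it8_215 : it 215 8 = (215, 1) := by decide +kernel
theorem it8_186 : it 186 8 = (186, 1) := by decide +kernel
theorem it8_235 : it 235 8 = (235, 1) := by decide +kernel
theorem it8_219 : it 219 8 = (219, 1) := by decide +kernel

theorem it8 : ∀ r ∈ [142, 232, 215, 186, 235, 219], it r 8 = (r, 1) := by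
  intro r hr
  simp only [List.mem_cons, List.not_mem_nil, or_false] at hr
  rcases hr with rfl | rfl | rfl | rfl | rfl | rfl
  · exact it8_142
  · exact it8_232
  · exact it8_215
  · exact it8_186
  · exact it8_235
  · exact it8_219

/-- the roots of `A₂` -/
def rt : Fin 3 → Fin 3 → ℕ := ![![0, 142, 215], ![97, 0, 201], ![24, 38, 0]]
/-- the signs -/
def sn : Fin 3 → Fin 3 → ℤ := ![![0, 1, -1], ![1, 0, -1], ![-1, -1, 0]]

theorem rt_lt : ∀ i j : Fin 3, rt i j < 240 := by decide

theorem rt_comm : ∀ i j k l : Fin 3, i ≠ j → k ≠ l → j ≠ k → i ≠ l → Cm (rt k l) (rt i j) = true := by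
  decide +kernel

/-- the commutator coefficient with sign -/
def bc (i j l : Fin 3) : ℤ := - (sn i l * (sn i j * sn j l))

theorem rt_br : ∀ i j l : Fin 3, i ≠ j → j ≠ l → i ≠ l → Br (rt j l) (rt i j) (rt i l) (bc i j l) = true := by
  decide +kernel

theorem rt_four : ∀ i j : Fin 3, i ≠ j → it (rt i j) 4 = (rt (2 - j) (2 - i), - (sn (2 - j) (2 - i) * sn i j)) := by
  decide +kernel

theorem rt_cross : ∀ i j k l : Fin 3, ∀ s ∈ [1, 2, 3], i ≠ j → k ≠ l → Cm (it (rt i j) s).1 (rt k l) = true := by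
  decide +kernel

/-! ### commutation among the orbits -/

theorem cm_TN : ∀ i j : Fin 8, i ≠ j → Cm (oT i) (oN j) = true := by decide +kernel
theorem cm_NP : ∀ i j : Fin 8, Cm (oN i) (oP j) = true := by decide +kernel
theorem cm_NN : ∀ i j : Fin 8, Cm (oN i) (oN j) = true := by decide +kernel
theorem cm_RT : ∀ i j : Fin 8, Cm (oR i) (oT j) = true := by decide +kernel
theorem cm_RN : ∀ i j : Fin 8, Cm (oR i) (oN j) = true := by decide +kernel
theorem cm_RP : ∀ i j : Fin 8, Cm (oR i) (oP j) = true := by decide +kernel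
theorem cm_RQ : ∀ i j : Fin 8, Cm (oR i) (oQ j) = true := by decide +kernel
theorem cm_RR : ∀ i j : Fin 8, Cm (oR i) (oR j) = true := by decide +kernel
theorem cm_RS : ∀ i j : Fin 8, Cm (oR i) (oS j) = true := by decide +kernel
theorem cm_SS : ∀ i j : Fin 8, Cm (oS i) (oS j) = true := by decide +kernel
theorem cm_SP : ∀ i j : Fin 8, Cm (oS i) (oP j) = true := by decide +kernel
theorem cm_SQ : ∀ i j : Fin 8, Cm (oS i) (oQ j) = true := by decide +kernel
theorem cm_QP : ∀ i : Fin 8, i ≠ 0 → i ≠ 4 → Cm (oQ i) (oP 0) = true := by decide +kernel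
theorem cm_QQ : ∀ i j : Fin 8, i ≠ j + 2 → j ≠ i + 2 → Cm (oQ i) (oQ j) = true := by decide +kernel

theorem br_TN : Br 232 142 235 (-1) = true := by decide +kernel
theorem br_PQ : Br 186 215 235 (-1) = true := by decide +kernel
theorem br_QQ : Br 156 186 219 1 = true := by decide +kernel

/-! ### a root that separates `ρ` from its conjugates -/

theorem cm_sep : ∀ j : Fin 8, j ≠ 0 → Cm 109 (oR j) = true := by decide +kernel

theorem br_sep : ∃ c : ℤ, (c = 1 ∨ c = -1) ∧ Br 109 235 234 c = true := by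
  by_cases h : Br 109 235 234 1 = true
  · exact ⟨1, Or.inl rfl, h⟩
  · refine ⟨-1, Or.inr rfl, ?_⟩
    revert h
    decide +kernel

/-! ### the torus of `π` -/

/-- check of `ChainAdd` -/
def chk (D : ChevalleyDatum) (r : ℕ) (f : ℕ → ℤ) : Bool :=
  decide (f r = 1) && decide (f (D.neg r) = -1) &&
    (D.chain.getD r #[]).toList.all fun e => e.2.toList.zipIdx.all fun q => decide (f q.1.1 = f e.1 + (q.2 + 1))

theorem chainAdd_of_chk {D : ChevalleyDatum} {r : ℕ} {f : ℕ → ℤ} (h : chk D r f = true) :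
    Cfsg.Agent.ChevalleyStructure.DiagConj.ChainAdd D r f := by
  simp only [chk, Bool.and_eq_true, decide_eq_true_eq, List.all_eq_true] at h
  refine ⟨h.1.1, h.1.2, fun e he j q hq _ => ?_⟩
  exact h.2 e he (q, j) (List.mem_zipIdx_iff_getElem?.2 hq)

open Cfsg.Agent.ChevalleyStructure in
theorem chk_R_235 : chk chevE8 235 (fun s => Strings.cartanR chevE8 215 s) = true := by
  decide +kernel

open Cfsg.Agent.ChevalleyStructure in
theorem chk_R_233 : chk chevE8 233 (fun s => Strings.cartanR chevE8 215 s) = true := by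
  decide +kernel

open Cfsg.Agent.ChevalleyStructure in
theorem chk_R_225 : chk chevE8 225 (fun s => Strings.cartanR chevE8 215 s) = true := by
  decide +kernel

open Cfsg.Agent.ChevalleyStructure in
theorem chk_R : ∀ r ∈ [235, 233, 225], chk chevE8 r (fun s => Strings.cartanR chevE8 215 s) = true := by
  intro r hr
  simp only [List.mem_cons, List.not_mem_nil, or_false] at hr
  rcases hr with rfl | rfl | rfl
  · exact chk_R_235
  · exact chk_R_233
  · exact chk_R_225

theorem cm_R7 : Cm 215 234 = true ∧ Cm 24 234 = true := by decide +kernel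

end Cfsg.Agent.H992.E8X
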