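import Cfsg.Agent.H992.E8X.Model2

/-!
# The torus of `SU₃(u⁴)` acts on the centre of the radical (helper992)
-/

set_option autoImplicit false

namespace Cfsg.Agent.H992.E8X

open Cfsg Cfsg.Lie Cfsg.Agent.ChevalleyStructure Cfsg.Agent.ChevalleyStructure.Elts
open Matrix Matrix.SpecialLinearGroup
open scoped commutatorElement

universe u v

theorem neg_215 : chevE8.neg 215 = 24 := by decide +kernel

theorem it_back : it 234 1 = (235, (it 234 1).2) ∧ it 233 2 = (235, (it 233 2).2) ∧ it 225 3 = (235, (it 225 3).2) ∧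
    (it 234 1).2 * (it 234 1).2 = 1 ∧ (it 233 2).2 * (it 233 2).2 = 1 ∧ (it 225 3).2 * (it 225 3).2 = 1 := by
  decide +kernel

section
variable {k : Type u} [Field k]

theorem lt_of_mem {r : ℕ} (hr : r ∈ [235, 233, 225]) : r < 240 := by
  simp only [List.mem_cons, List.not_mem_nil, or_false] at hr
  omega

theorem hG_X {r : ℕ} (hr : r ∈ [235, 233, 225]) {τ : k} (hτ : τ ≠ 0) (c : k) :
    hG hE8 215 τ * xG hE8 r c = xG hE8 r (τ * c) * hG hE8 215 τ := by
  apply Units.ext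
  rw [Units.val_mul, Units.val_mul, coe_hG, coe_xG, coe_xG, StringMem.hMat_eq hE8 (show 215 < 240 by decide) hτ]
  exact (DiagConj.x_mul_dg (show r < chevE8.nroots from lt_of_mem hr) (chainAdd_of_chk (chk_R r hr)) hτ c).symm

/-- the image of `diag(τ, 1, τ⁻¹)` -/
def hh (τ : k) : ↥(chevE8.group k) :=
  X 215 (-τ) * X 24 τ⁻¹ * X 215 (-τ) * X 215 1 * X 24 (-1) * X 215 1

theorem coe_hh (τ : k) : (hh τ : GL chevE8.Idx k) = hG hE8 215 (-τ) * (hG hE8 215 (-1))⁻¹ := by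
  show xG hE8 215 (-τ) * xG hE8 24 τ⁻¹ * xG hE8 215 (-τ) * xG hE8 215 1 * xG hE8 24 (-1) * xG hE8 215 1 = _
  have e : ∀ r (t : k), (xG hE8 r t)⁻¹ = xG hE8 r (-t) := fun r t => by
    rw [inv_eq_iff_mul_eq_one, xG_add, add_neg_cancel]
    exact congrArg Subtype.val (X_zero (k := k) r)
  have e1 : (-(-τ)⁻¹ : k) = τ⁻¹ := by rw [inv_neg, neg_neg]
  have e2 : (-(-1 : k)⁻¹ : k) = 1 := by norm_num
  rw [hG_def, hG_def, nG_def, nG_def, neg_215, e1, e2]
  have e3 := e 215 (-1)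
  have e4 := e 24 (1 : k)
  rw [neg_neg] at e3
  rw [← e3, ← e4]
  group

theorem hh_X {r : ℕ} (hr : r ∈ [235, 233, 225]) {τ : k} (hτ : τ ≠ 0) (c : k) :
    hh τ * X r c * (hh τ)⁻¹ = X r (τ * c) := by
  apply Subtype.ext
  show (hh τ : GL chevE8.Idx k) * xG hE8 r c * (hh τ : GL chevE8.Idx k)⁻¹ = xG hE8 r (τ * c)
  have h1 := hG_X (k := k) hr (neg_ne_zero.2 hτ)
  have h2 := hG_X (k := k) hr (show (-1 : k) ≠ 0 by simp)
  rw [coe_hh, mul_inv_eq_iff_eq_mul]
  have h3 : (hG hE8 215 (-1 : k))⁻¹ * xG hE8 r c = xG hE8 r (-c) * (hG hE8 215 (-1 : k))⁻¹ := by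
    rw [inv_mul_eq_iff_eq_mul, ← mul_assoc, h2, mul_inv_cancel_right]
    congr 1
    ring
  rw [mul_assoc, h3, ← mul_assoc, h1, mul_assoc]
  congr 2
  ring

theorem hh_comm (τ c : k) : Commute (hh τ) (X 234 c) := by
  have h1 : ∀ t : k, Commute (X 215 t) (X 234 c) := fun t => (X_commute (by decide) (by decide) cm_R7.1 t c).symm
  have h2 : ∀ t : k, Commute (X 24 t) (X 234 c) := fun t => (X_commute (by decide) (by decide) cm_R7.2 t c).symm
  unfold hh
  exact (((((h1 _).mul_left (h2 _)).mul_left (h1 _)).mul_left (h1 _)).mul_left (h2 _)).mul_left (h1 _)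

end

section
variable {k : Type u} [Field k] {p : ℕ} [Fact p.Prime] [CharP k p] [PerfectRing k p] {n : ℕ}

/-- the action of a `σ`-conjugate -/
theorem conj_back {r i : ℕ} {s : ℤ} (hr : r < 240) (hi : it r i = (235, s)) (hs : s * s = 1) {g : ↥(chevE8.group k)}
    {μ : k} (hg : ∀ c, g * X r c * g⁻¹ = X r (μ * c)) (t : k) :
    (sig k p n ^ i) g * X 235 t * ((sig k p n ^ i) g)⁻¹ = X 235 (μ ^ (p ^ n) ^ i * t) := by
  obtain ⟨t', ht'⟩ : ∃ t' : k, t' ^ (p ^ n) ^ i = (s : k) * t := by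
    refine ⟨(iterateFrobeniusEquiv k p (n * i)).symm ((s : k) * t), ?_⟩
    rw [← pow_mul]
    have := (iterateFrobeniusEquiv k p (n * i)).apply_symm_apply ((s : k) * t)
    rwa [iterateFrobeniusEquiv_def] at this
  have hs' : (s : k) * s = 1 := by rw [← Int.cast_mul, hs, Int.cast_one]
  have h1 := (sig_it (k := k) (p := p) (n := n) hr i t').2
  have h2 := (sig_it (k := k) (p := p) (n := n) hr i (μ * t')).2
  rw [hi] at h1 h2
  simp only at h1 h2
  rw [ht', ← mul_assoc, hs', one_mul] at h1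
  rw [mul_pow, ht'] at h2
  rw [← h1, ← map_mul, ← map_inv, ← map_mul, hg, h2]
  congr 1
  linear_combination (μ ^ (p ^ n) ^ i * t) * hs'

/-- the action of `ι(diag(τ, 1, τ⁻¹))` on the root group of `ρ` -/
theorem P4_hh {τ : k} (hτ : τ ≠ 0) (t : k) :
    P4 k p n (hh τ) * X 235 t * (P4 k p n (hh τ))⁻¹ = X 235 (τ ^ (1 + (p ^ n) ^ 2 + (p ^ n) ^ 3) * t) := by
  obtain ⟨b1, b2, b3, s1, s2, s3⟩ := it_back
  have e1 : ∀ t : k, (sig k p n ^ 1) (hh τ) * X 235 t * ((sig k p n ^ 1) (hh τ))⁻¹ = X 235 t := by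
    intro t
    have h := conj_back (k := k) (p := p) (n := n) (by decide) b1 s1 (g := hh τ) (μ := 1) (fun c => by
      rw [one_mul, (hh_comm τ c).eq, mul_inv_cancel_right]) t
    rwa [one_pow, one_mul] at h
  have e2 := fun t : k => conj_back (k := k) (p := p) (n := n) (by decide) b2 s2 (g := hh τ) (μ := τ)
    (fun c => hh_X (by decide) hτ c) t
  have e3 := fun t : k => conj_back (k := k) (p := p) (n := n) (by decide) b3 s3 (g := hh τ) (μ := τ)
    (fun c => hh_X (by decide) hτ c) t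
  have e0 := fun t : k => hh_X (k := k) (r := 235) (by decide) hτ t
  unfold P4
  calc hh τ * (sig k p n ^ 1) (hh τ) * (sig k p n ^ 2) (hh τ) * (sig k p n ^ 3) (hh τ) * X 235 t *
        (hh τ * (sig k p n ^ 1) (hh τ) * (sig k p n ^ 2) (hh τ) * (sig k p n ^ 3) (hh τ))⁻¹
      = hh τ * ((sig k p n ^ 1) (hh τ) * ((sig k p n ^ 2) (hh τ) * ((sig k p n ^ 3) (hh τ) * X 235 t *
          ((sig k p n ^ 3) (hh τ))⁻¹) * ((sig k p n ^ 2) (hh τ))⁻¹) * ((sig k p n ^ 1) (hh τ))⁻¹) * (hh τ)⁻¹ := by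
        group
    _ = X 235 (τ * (τ ^ (p ^ n) ^ 2 * (τ ^ (p ^ n) ^ 3 * t))) := by rw [e3, e2, e1, e0]
    _ = _ := congrArg (X 235) (by rw [pow_add, pow_add, pow_one]; ring)

variable {E : Type v} [Field E] (f : E →+* k)

/-- conjugation of `rr` by a `σ`-fixed element -/
theorem rr_conj {g : ↥(chevE8.group k)} (hg : sig k p n g = g) {l : E}
    (h : ∀ d : E, g * X 235 (f d) * g⁻¹ = X 235 (f (l * d))) (d : E) :
    g * rr p n f d * g⁻¹ = rr p n f (l * d) := by
  have h4 : ∀ i, g * (sig k p n ^ i) (X 235 (f d)) * g⁻¹ = (sig k p n ^ i) (X 235 (f (l * d))) := by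
    intro i
    have h1 := congrArg (⇑(sig k p n ^ i)) (h d)
    rw [map_mul, map_mul, map_inv, pow_sig_fix hg] at h1
    exact h1
  have hR : g * Rd p n f d * g⁻¹ = Rd p n f (l * d) := by
    unfold Rd
    calc g * (X 235 (f d) * (sig k p n ^ 4) (X 235 (f d))) * g⁻¹ =
          (g * X 235 (f d) * g⁻¹) * (g * (sig k p n ^ 4) (X 235 (f d)) * g⁻¹) := by group
      _ = _ := by rw [h, h4]
  have hRi : ∀ i, g * (sig k p n ^ i) (Rd p n f d) * g⁻¹ = (sig k p n ^ i) (Rd p n f (l * d)) := by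
    intro i
    have h1 := congrArg (⇑(sig k p n ^ i)) hR
    rw [map_mul, map_mul, map_inv, pow_sig_fix hg] at h1
    exact h1
  unfold rr P4
  calc g * (Rd p n f d * (sig k p n ^ 1) (Rd p n f d) * (sig k p n ^ 2) (Rd p n f d) * (sig k p n ^ 3) (Rd p n f d)) *
        g⁻¹ = (g * Rd p n f d * g⁻¹) * (g * (sig k p n ^ 1) (Rd p n f d) * g⁻¹) *
          (g * (sig k p n ^ 2) (Rd p n f d) * g⁻¹) * (g * (sig k p n ^ 3) (Rd p n f d) * g⁻¹) := by group
    _ = _ := by rw [hR, hRi, hRi, hRi]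

/-- `rr d ≠ 1` -/
theorem rr_ne {d : E} (h : rr p n f d = 1) : d = 0 := by
  have hc : ∀ i < 8, i ≠ 0 → Commute ((sig k p n ^ i) (X 235 (f d))) (X 109 1) := by
    intro i hi hi0
    have h1 := sig_it (k := k) (p := p) (n := n) (r := 235) (by decide) i (f d)
    rw [h1.2]
    have h2 := it_R ⟨i, hi⟩
    simp only at h2
    refine X_commute (by decide) h1.1 ?_ _ _
    rw [h2]
    exact cm_sep _ fun h3 => hi0 (congrArg Fin.val h3)
  have hR : ∀ i < 4, i ≠ 0 → Commute ((sig k p n ^ i) (Rd p n f d)) (X 109 1) := by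
    intro i hi hi0
    unfold Rd
    rw [map_mul, sig_sig]
    exact (hc i (by omega) hi0).mul_left (hc (i + 4) (by omega) (by omega))
  obtain ⟨c, hc1, hbr⟩ := br_sep
  have h1 : rr p n f d = X 235 (f d) * ((sig k p n ^ 4) (X 235 (f d)) * (sig k p n ^ 1) (Rd p n f d) *
      (sig k p n ^ 2) (Rd p n f d) * (sig k p n ^ 3) (Rd p n f d)) := by
    have h0 : Rd p n f d = X 235 (f d) * (sig k p n ^ 4) (X 235 (f d)) := rfl
    calc rr p n f d = Rd p n f d * (sig k p n ^ 1) (Rd p n f d) * (sig k p n ^ 2) (Rd p n f d) *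
          (sig k p n ^ 3) (Rd p n f d) := rfl
      _ = (X 235 (f d) * (sig k p n ^ 4) (X 235 (f d))) * (sig k p n ^ 1) (Rd p n f d) *
          (sig k p n ^ 2) (Rd p n f d) * (sig k p n ^ 3) (Rd p n f d) := by
          congr 3
      _ = _ := by simp only [mul_assoc]
  have h2 : Commute ((sig k p n ^ 4) (X 235 (f d)) * (sig k p n ^ 1) (Rd p n f d) *
      (sig k p n ^ 2) (Rd p n f d) * (sig k p n ^ 3) (Rd p n f d)) (X 109 1) :=
    ((((hc 4 (by decide) (by decide)).mul_left (hR 1 (by decide) (by decide))).mul_left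
      (hR 2 (by decide) (by decide))).mul_left (hR 3 (by decide) (by decide)))
  rw [h] at h1
  have h3 : Commute (X 235 (f d)) (X 109 (1 : k)) := by
    rw [eq_inv_of_mul_eq_one_left h1.symm]
    exact h2.inv_left
  have h4 := commutatorElement_eq_one_iff_commute.2 h3
  rw [X_br (r := 109) (s := 235) (q := 234) (by decide) (by decide) (by decide) hbr] at h4
  have h5 := X_eq_one (by decide) h4
  rw [mul_one] at h5
  have h6 : (c : k) ≠ 0 := by rcases hc1 with rfl | rfl <;> simp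
  rcases mul_eq_zero.1 h5 with h7 | h7
  · exact absurd (neg_eq_zero.1 h7) h6
  · exact (map_eq_zero f).1 h7

end

end Cfsg.Agent.H992.E8X
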