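import Cfsg.Agent.H992.E8X.UCAll
import Cfsg.Agent.H484.E8Two
import Cfsg.Agent.H64.ChevField
import Cfsg.Agent.S2125

/-!
# Groups with the prime graph of `E₈(2)`: the end of the proof (helper992)
-/

set_option autoImplicit false

namespace Cfsg.Agent.H992.E8X

open Cfsg Cfsg.Lie Cfsg.Agent.H407.E8 Cfsg.Agent.H378.ExcAdj

universe u v

/-- a normal subgroup without outer automorphisms and with trivial centralizer -/
theorem top_of_out {X : Type u} [Group X] (S : Subgroup X) [S.Normal] (hC : Subgroup.centralizer (S : Set X) = ⊥)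
    {H : Type v} [Group H] (e : ↥S ≃* H) (ho : ∀ a : MulAut H, ∃ h : H, a = MulAut.conj h) : S = ⊤ := by
  rw [Subgroup.eq_top_iff']
  intro x
  let a : MulAut ↥S := MulAut.conjNormal x
  obtain ⟨h, hh⟩ := ho ((e.symm.trans a).trans e)
  have key : ∀ y : ↥S, a y = e.symm h * y * (e.symm h)⁻¹ := by
    intro y
    have h1 : ((e.symm.trans a).trans e) (e y) = MulAut.conj h (e y) := by rw [hh]
    rw [MulAut.conj_apply] at h1
    have h2 : ((e.symm.trans a).trans e) (e y) = e (a y) := by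
      show e (a (e.symm (e y))) = e (a y)
      rw [e.symm_apply_apply]
    rw [h2] at h1
    apply e.injective
    rw [h1]
    simp only [map_mul, map_inv, MulEquiv.apply_symm_apply]
  have h3 : ((e.symm h : ↥S) : X)⁻¹ * x ∈ Subgroup.centralizer (S : Set X) := by
    rw [Subgroup.mem_centralizer_iff]
    intro y hy
    have h4 := congrArg Subtype.val (key ⟨y, hy⟩)
    have h5 : x * y * x⁻¹ = (e.symm h : ↥S) * y * ((e.symm h : ↥S) : X)⁻¹ := h4
    have h6 : x * y = (e.symm h : ↥S) * y * ((e.symm h : ↥S) : X)⁻¹ * x := by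
      rw [← h5]
      group
    rw [mul_assoc, h6]
    group
  rw [hC, Subgroup.mem_bot] at h3
  have h7 : x = (e.symm h : ↥S) := (inv_mul_eq_one.1 h3).symm
  rw [h7]
  exact (e.symm h).2

theorem aut_inner {F : Type u} [Field F] [Fintype F] (hF : Fintype.card F = 2) (a : MulAut ↥(chevE8.group F)) :
    ∃ h : ↥(chevE8.group F), a = MulAut.conj h := by
  have : Fact (Nat.Prime 2) := ⟨Nat.prime_two⟩
  have hch : CharP F 2 := by
    obtain ⟨p, hp⟩ := CharP.exists F
    obtain ⟨n, hpp, hn⟩ := FiniteField.card F p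
    rw [hF] at hn
    have h1 : p ∣ 2 := by rw [hn]; exact dvd_pow_self p n.ne_zero
    have := (Nat.prime_dvd_prime_iff_eq hpp Nat.prime_two).1 h1
    rw [← this]
    exact hp
  have h1 : Nat.card (Out ↥(chevE8.group F)) = 1 := S2125.result 2 1 (by rw [hF, pow_one])
  have h2 : Subsingleton (Out ↥(chevE8.group F)) := (Nat.card_eq_one_iff_unique.1 h1).1
  have h3 : a ∈ Inn ↥(chevE8.group F) := by
    rw [← QuotientGroup.eq_one_iff]
    exact Subsingleton.elim _ _
  obtain ⟨h, hh⟩ := h3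
  exact ⟨h, hh.symm⟩

/-- **the end of the proof of S3529** -/
theorem two_of {F : Type v} [Field F] [Fintype F] (hF : Fintype.card F = 2) {G : Type u} [Group G] [Finite G]
    (h : Same ↥(chevE8.group F) G) {K : Subgroup G} [K.Normal] {S : Subgroup (G ⧸ K)} [S.Normal] (fr : Fr F K S)
    (hl : ∀ (F' : Type) [Field F'] [Fintype F'], Nonempty (↥S ≃* ↥(chevE8.group F')) →
      ∀ l : ℕ, l.Prime → l ∣ Nat.card ↥K → ∃ r : ℕ, r.Prime ∧ od (Nat.card F') r = 24 ∧ l ≠ r ∧
      ¬ ∃ g : G, orderOf g = l * r) : Nonempty (G ≃* ↥(chevE8.group F)) := by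
  have hK : K = ⊥ := fr.bot' hl (fun F' _ _ l hlp => uc F' hlp)
  obtain ⟨F', _, _, ⟨e⟩⟩ := fr.e8
  have hF' : Fintype.card F' = 2 := by
    refine H484.E8Two.card_eq_two hF fun r hr hrF' => ?_
    rw [h.1 r hr]
    refine (hrF'.trans ?_).trans fr.red.pi
    rw [Nat.card_congr e.toEquiv]
  have hS : S = ⊤ := top_of_out S fr.red.cent e (aut_inner hF')
  subst hS
  subst hK
  exact ⟨(QuotientGroup.quotientBot.symm.trans Subgroup.topEquiv.symm).trans (e.trans
    (H64.ChevField.groupCongr (FiniteField.ringEquivOfCardEq (hF'.trans hF.symm)) chevE8))⟩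

end Cfsg.Agent.H992.E8X
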